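import Groth.Agent.LieS.K988.Jac

/-!
# The Lie algebra model of the Lie algebra of a group scheme
-/

set_option autoImplicit false
set_option linter.style.haveILetI false
set_option linter.unusedSectionVars false
set_option linter.unusedVariables false

universe u

open CategoryTheory MonoidalCategory CartesianMonoidalCategory MonObj GrpObj AlgebraicGeometry
open CategoryTheory.Limits

namespace K988.LieModel

open LieS K988.LieCalc K988.LieScale K988.LieInj K988.LieBrk K988.LieJac

variable {S : Scheme.{u}} {B : Type u} [CommRing B] (f : Spec (CommRingCat.of B) ⟶ S)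
variable (G : Over S) [GrpObj G]

/-- The Lie algebra, written additively. -/
def LL : Type u := Additive (Lie G B f)

/-- to the additive notation -/
def mk (v : Lie G B f) : LL f G := Additive.ofMul v

/-- from the additive notation -/
def un (v : LL f G) : Lie G B f := Additive.toMul v

noncomputable instance : AddGroup (LL f G) := inferInstanceAs (AddGroup (Additive (Lie G B f)))

noncomputable instance : AddCommGroup (LL f G) :=
  { (inferInstance : AddGroup (LL f G)) with
    add_comm := fun a b => congrArg (mk f G) (lie_mul_comm f G (un f G a) (un f G b)) }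

noncomputable instance : SMul B (LL f G) := ⟨fun b v => mk f G (b • un f G v)⟩

noncomputable instance : Module B (LL f G) where
  one_smul v := congrArg (mk f G) (one_smul' f G (un f G v))
  mul_smul b c v := congrArg (mk f G) (mul_smul' f G b c (un f G v))
  smul_zero b := congrArg (mk f G) (smul_one' f G b)
  smul_add b v w := congrArg (mk f G) (smul_mul' f G b (un f G v) (un f G w))
  add_smul b c v := congrArg (mk f G) (smul_add' f G b c (un f G v))
  zero_smul v := congrArg (mk f G) (zero_smul' f G (un f G v))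

noncomputable instance : Bracket (LL f G) (LL f G) :=
  ⟨fun x y => mk f G (brk f G (un f G x) (un f G y))⟩

lemma addLie (x y z : LL f G) : ⁅x + y, z⁆ = ⁅x, z⁆ + ⁅y, z⁆ :=
  congrArg (mk f G) (brk_mul_left f G (un f G x) (un f G y) (un f G z))

lemma lieAdd (x y z : LL f G) : ⁅x, y + z⁆ = ⁅x, y⁆ + ⁅x, z⁆ :=
  congrArg (mk f G) (brk_mul_right f G (un f G x) (un f G y) (un f G z))

lemma lieSelf (x : LL f G) : ⁅x, x⁆ = 0 :=
  congrArg (mk f G) (brk_self f G (un f G x))

lemma anti (x y : LL f G) : ⁅x, y⁆ = - ⁅y, x⁆ := by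
  have h := lieSelf f G (x + y)
  rw [addLie, lieAdd, lieAdd, lieSelf, lieSelf, zero_add, add_zero] at h
  exact eq_neg_of_add_eq_zero_left h

/-- the left multiplication as an additive map -/
noncomputable def lmap (y : LL f G) : LL f G →+ LL f G where
  toFun x := ⁅x, y⁆
  map_zero' := by
    have h := addLie f G 0 0 y
    rw [add_zero] at h
    exact left_eq_add.1 h
  map_add' a b := addLie f G a b y

lemma negLie (x y : LL f G) : ⁅-x, y⁆ = - ⁅x, y⁆ := (lmap f G y).map_neg x

lemma jac (x y z : LL f G) : ⁅⁅-y, x⁆, z⁆ + ⁅⁅-z, y⁆, x⁆ + ⁅⁅-x, z⁆, y⁆ = 0 :=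
  congrArg (mk f G) (jacobi' f G (un f G x) (un f G y) (un f G z))

lemma leib (x y z : LL f G) : ⁅x, ⁅y, z⁆⁆ = ⁅⁅x, y⁆, z⁆ + ⁅y, ⁅x, z⁆⁆ := by
  have h := jac f G x y z
  rw [negLie, negLie, negLie, negLie, negLie, negLie] at h
  rw [anti f G x ⁅y, z⁆, anti f G y z, negLie, anti f G x y, negLie, anti f G y ⁅x, z⁆, neg_neg]
  have h2 : ⁅⁅z, y⁆, x⁆ = -(⁅⁅y, x⁆, z⁆ + ⁅⁅x, z⁆, y⁆) := by
    have : ⁅⁅z, y⁆, x⁆ + (⁅⁅y, x⁆, z⁆ + ⁅⁅x, z⁆, y⁆) =
      -(-⁅⁅y, x⁆, z⁆ + -⁅⁅z, y⁆, x⁆ + -⁅⁅x, z⁆, y⁆) := by abel
    rw [h, neg_zero] at this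
    exact eq_neg_of_add_eq_zero_left this
  rw [h2, neg_add]

noncomputable instance : LieRing (LL f G) where
  add_lie := addLie f G
  lie_add := lieAdd f G
  lie_self := lieSelf f G
  leibniz_lie := leib f G

noncomputable instance : LieAlgebra B (LL f G) where
  lie_smul b x y := congrArg (mk f G) (brk_smul_right f G b (un f G x) (un f G y))

/-- The model. -/
noncomputable def model : Model G B f (LL f G) where
  e :=
    { toFun := fun v => un f G (Multiplicative.toAdd v)
      invFun := fun v => Multiplicative.ofAdd (mk f G v)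
      left_inv := fun _ => rfl
      right_inv := fun _ => rfl
      map_mul' := fun _ _ => rfl }
  e_smul _ _ := rfl
  e_lie x y := isBracket_brk f G (un f G x) (un f G y)

theorem exists_model : ∃ (L : Type u) (_ : LieRing L) (_ : LieAlgebra B L),
    Nonempty (LieS.Model G B f L) :=
  ⟨LL f G, inferInstance, inferInstance, ⟨model f G⟩⟩

end K988.LieModel
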