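import Groth.Agent.LieS.K988.Calc

/-!
# Rescaling of points with values in dual numbers, invertibility
-/

set_option autoImplicit false
set_option linter.style.haveILetI false
set_option linter.unusedSectionVars false
set_option linter.unusedVariables false

universe u

open CategoryTheory MonoidalCategory CartesianMonoidalCategory MonObj GrpObj AlgebraicGeometry

namespace K988.LieScale

open LieS K988.LieCalc

variable {S : Scheme.{u}} {B : Type u} [CommRing B] (f : Spec (CommRingCat.of B) ⟶ S)
variable {X : Over S}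

lemma alg_eps_sq (b : B) : algebraMap B (DualNumber B) b * DualNumber.eps *
    (algebraMap B (DualNumber B) b * DualNumber.eps) = 0 := by
  calc _ = algebraMap B (DualNumber B) b * algebraMap B (DualNumber B) b *
      (DualNumber.eps * DualNumber.eps) := by ring
    _ = 0 := by rw [eps_sq, mul_zero]

lemma ev_eps_scale (b : B) :
    ev f (algebraMap B (DualNumber B)) DualNumber.eps (eps_sq B) ≫ scale B f b =
      ev f (algebraMap B (DualNumber B)) (algebraMap B (DualNumber B) b * DualNumber.eps)
        (alg_eps_sq b) :=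
  ev_scale f _ _ _ b _ _ rfl

/-- Precomposition as a monoid homomorphism. -/
def preHom [MonObj X] {T T' : Over S} (g : T' ⟶ T) : (T ⟶ X) →* (T' ⟶ X) where
  toFun v := g ≫ v
  map_one' := MonObj.comp_one g
  map_mul' v w := MonObj.comp_mul g v w

lemma scale_one : scale B f 1 = 𝟙 _ := by
  apply over_ext
  change Spec.map (CommRingCat.ofHom _) = 𝟙 _
  have h : scaleHom (1 : B) = RingHom.id _ := by
    refine RingHom.ext fun x => ?_
    rw [scaleHom, dualHom_apply, RingHom.id_apply]
    apply TrivSqZeroExt.ext <;> simp [TrivSqZeroExt.algebraMap_eq_inl']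
  rw [h, CommRingCat.ofHom_id]
  exact Spec.map_id _

lemma scale_mul (b c : B) : scale B f (b * c) = scale B f b ≫ scale B f c := by
  refine over_ext (specMap_comp_eq _ _ _ fun x => ?_).symm
  simp only [scaleHom, dualHom_apply, TrivSqZeroExt.algebraMap_eq_inl',
    Algebra.algebraMap_self, RingHom.id_apply]
  apply TrivSqZeroExt.ext
  · simp
  · simp; ring

variable [MonObj X] (v : dpt B f ⟶ X) (hv : zeroSec B f ≫ v = 1)

include hv in
lemma scale_add (b c : B) : scale B f (b + c) ≫ v = (scale B f b ≫ v) * (scale B f c ≫ v) := by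
  apply eq_of_ev_eps
  rw [MonObj.comp_mul, ← Category.assoc, ← Category.assoc, ← Category.assoc, ev_eps_scale,
    ev_eps_scale, ev_eps_scale]
  refine ev_add f v hv _ _ _ _ _ ?_ _ _ ?_
  · calc _ = algebraMap B (DualNumber B) b * algebraMap B (DualNumber B) c *
      (DualNumber.eps * DualNumber.eps) := by ring
      _ = 0 := by rw [eps_sq, mul_zero]
  · rw [map_add, add_mul]

include hv in
lemma scale_zero : scale B f 0 ≫ v = 1 := by
  apply eq_of_ev_eps
  rw [← Category.assoc, ev_eps_scale, MonObj.comp_one]
  exact ev_zero_comp f v hv _ _ _ (by rw [map_zero, zero_mul])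

include hv in
lemma isUnit_of_one : IsUnit v := by
  have h1 : v * (scale B f (-1) ≫ v) = 1 := by
    have := scale_add f v hv 1 (-1)
    rw [add_neg_cancel, scale_zero f v hv, scale_one, Category.id_comp] at this
    exact this.symm
  have h2 : (scale B f (-1) ≫ v) * v = 1 := by
    have := scale_add f v hv (-1) 1
    rw [neg_add_cancel, scale_zero f v hv, scale_one, Category.id_comp] at this
    exact this.symm
  exact ⟨⟨v, _, h1, h2⟩, rfl⟩

theorem isUnit_iff (v : dpt B f ⟶ X) : IsUnit v ↔ IsUnit (zeroSec B f ≫ v) := by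
  constructor
  · intro h
    exact h.map (preHom (X := X) (zeroSec B f))
  · rintro ⟨g, hg⟩
    have hgi : (zeroSec B f ≫ v) * (↑g⁻¹ : pt B f ⟶ X) = 1 := by rw [← hg, Units.mul_inv]
    have hz : zeroSec B f ≫ (v * (proj B f ≫ (↑g⁻¹ : pt B f ⟶ X))) = 1 := by
      rw [MonObj.comp_mul, ← Category.assoc (zeroSec B f) (proj B f), zeroSec_proj,
        Category.id_comp, hgi]
    have h1 := isUnit_of_one f _ hz
    have h2 : IsUnit (proj B f ≫ (↑g⁻¹ : pt B f ⟶ X)) :=
      (g⁻¹).isUnit.map (preHom (X := X) (proj B f))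
    obtain ⟨w, hw⟩ := h2
    have h3 : v = (v * (proj B f ≫ (↑g⁻¹ : pt B f ⟶ X))) * ↑w⁻¹ := by
      rw [← hw, _root_.mul_assoc, Units.mul_inv, _root_.mul_one]
    rw [h3]
    exact h1.mul (w⁻¹).isUnit

section Group

variable (G : Over S) [GrpObj G]

lemma smul_add' (b c : B) (v : Lie G B f) : (b + c) • v = (b • v) * (c • v) := by
  apply Subtype.ext
  exact scale_add f v.1 v.2 b c

lemma one_smul' (v : Lie G B f) : (1 : B) • v = v := by
  apply Subtype.ext
  change scale B f 1 ≫ v.1 = v.1
  rw [scale_one, Category.id_comp]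

lemma mul_smul' (b c : B) (v : Lie G B f) : (b * c) • v = b • (c • v) := by
  apply Subtype.ext
  change scale B f (b * c) ≫ v.1 = scale B f b ≫ scale B f c ≫ v.1
  rw [scale_mul, Category.assoc]

lemma zero_smul' (v : Lie G B f) : (0 : B) • v = 1 := by
  apply Subtype.ext
  exact scale_zero f v.1 v.2

lemma smul_one' (b : B) : b • (1 : Lie G B f) = 1 := by
  apply Subtype.ext
  exact MonObj.comp_one _

lemma smul_mul' (b : B) (v w : Lie G B f) : b • (v * w) = (b • v) * (b • w) := by
  apply Subtype.ext
  exact MonObj.comp_mul _ _ _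

theorem zpow_eq (v : Lie G B f) (n : ℤ) : v ^ n = ((n : B) • v : Lie G B f) := by
  let φ : Multiplicative ℤ →* Lie G B f :=
    { toFun := fun n => ((Multiplicative.toAdd n : ℤ) : B) • v
      map_one' := by
        change ((0 : ℤ) : B) • v = 1
        rw [Int.cast_zero, zero_smul']
      map_mul' := fun a b => by
        change ((Multiplicative.toAdd a + Multiplicative.toAdd b : ℤ) : B) • v = _
        rw [Int.cast_add, smul_add'] }
  have h := map_zpow φ (Multiplicative.ofAdd (1 : ℤ)) n
  have h1 : φ (Multiplicative.ofAdd (1 : ℤ)) = v := by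
    change ((1 : ℤ) : B) • v = v
    rw [Int.cast_one, one_smul']
  rw [h1] at h
  rw [← h, ← ofAdd_zsmul]
  change ((n • (1 : ℤ) : ℤ) : B) • v = (n : B) • v
  simp

end Group

end K988.LieScale
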