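import Groth.Agent.LieS.K988.Inj

/-!
# The bracket on the Lie algebra of a group scheme
-/

set_option autoImplicit false
set_option linter.style.haveILetI false
set_option linter.unusedSectionVars false
set_option linter.unusedVariables false

universe u

open CategoryTheory MonoidalCategory CartesianMonoidalCategory MonObj GrpObj AlgebraicGeometry
open CategoryTheory.Limits
open Groth.Agent.FlatB.PushRing

namespace K988.LieBrk

open LieS K988.LieCalc K988.LieScale K988.LieInj

/-- The commutator. -/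
def cm {Γ : Type*} [Group Γ] (a b : Γ) : Γ := a * b * a⁻¹ * b⁻¹

lemma cm_eq_one_iff {Γ : Type*} [Group Γ] (a b : Γ) : cm a b = 1 ↔ a * b = b * a := by
  unfold cm
  constructor
  · intro h
    calc a * b = (a * b * a⁻¹ * b⁻¹) * (b * a) := by group
      _ = b * a := by rw [h, _root_.one_mul]
  · intro h
    rw [h]; group

section Ring

variable (B : Type u) [CommRing B]

/-- A copy of the iterated dual numbers. -/
def DD (B : Type u) [CommRing B] : Type u := DualNumber (DualNumber B)

noncomputable instance : CommRing (DD B) := inferInstanceAs (CommRing (DualNumber (DualNumber B)))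

/-- The structure map. -/
noncomputable def tD (B : Type u) [CommRing B] : B →+* DD B :=
  (algebraMap (DualNumber B) (DualNumber (DualNumber B))).comp (algebraMap B (DualNumber B))

/-- the first coordinate `ε` -/
noncomputable def E1 : DD B := algebraMap (DualNumber B) (DualNumber (DualNumber B)) DualNumber.eps

/-- the second coordinate `ε'` -/
noncomputable def E2 : DD B := (DualNumber.eps : DualNumber (DualNumber B))

lemma E1_sq : E1 B * E1 B = 0 := by
  change algebraMap (DualNumber B) (DualNumber (DualNumber B)) DualNumber.eps *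
    algebraMap (DualNumber B) (DualNumber (DualNumber B)) DualNumber.eps = 0
  rw [← map_mul, eps_sq, map_zero]

lemma E2_sq : E2 B * E2 B = 0 := eps_sq (DualNumber B)

lemma E12_sq : E1 B * E2 B * (E1 B * E2 B) = 0 := by
  calc _ = E1 B * E1 B * (E2 B * E2 B) := by ring
    _ = 0 := by rw [E2_sq, mul_zero]

variable {B}

/-- the identity -/
def cc (c : DualNumber (DualNumber B)) : DD B := c

lemma tD_apply (b : B) : tD B b = cc (TrivSqZeroExt.inl (TrivSqZeroExt.inl b)) := by
  change algebraMap (DualNumber B) (DualNumber (DualNumber B)) (algebraMap B (DualNumber B) b) = _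
  simp [TrivSqZeroExt.algebraMap_eq_inl', cc]

/-- Ring homomorphisms of commutative rings, with the standard instances. -/
abbrev RH (A C : Type u) [CommRing A] [CommRing C] : Type u := A →+* C

/-- The identity map. -/
noncomputable def castD (B : Type u) [CommRing B] : RH (D2 B) (DD B) where
  toFun x := cc x
  map_one' := rfl
  map_mul' _ _ := rfl
  map_zero' := rfl
  map_add' _ _ := rfl

/-- The identity map. -/
noncomputable def castD' (B : Type u) [CommRing B] : RH (DD B) (D2 B) where
  toFun x := x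
  map_one' := rfl
  map_mul' _ _ := rfl
  map_zero' := rfl
  map_add' _ _ := rfl

lemma castD_toD2 (b : B) : castD B (toD2 B b) = tD B b := rfl

/-- The constant coefficient. -/
def c0 (c : DD B) : B := TrivSqZeroExt.fst (TrivSqZeroExt.fst (c : DualNumber (DualNumber B)))

/-- The top coefficient. -/
def c3 (c : DD B) : B := TrivSqZeroExt.snd (TrivSqZeroExt.snd (c : DualNumber (DualNumber B)))

lemma E12_mul_aux (c : DualNumber (DualNumber B)) :
    algebraMap (DualNumber B) (DualNumber (DualNumber B)) DualNumber.eps *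
    (DualNumber.eps : DualNumber (DualNumber B)) * c =
      (TrivSqZeroExt.inl (TrivSqZeroExt.inl c.fst.fst) :
      DualNumber (DualNumber B)) * (algebraMap (DualNumber B) (DualNumber (DualNumber B)) DualNumber.eps *
    (DualNumber.eps : DualNumber (DualNumber B))) := by
  apply TrivSqZeroExt.ext
  · simp
  · apply TrivSqZeroExt.ext
    · simp [TrivSqZeroExt.algebraMap_eq_inl']
    · simp [TrivSqZeroExt.algebraMap_eq_inl']

lemma E12_mul (c : DD B) : E1 B * E2 B * c = tD B (c0 c) * (E1 B * E2 B) := by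
  rw [tD_apply]
  exact E12_mul_aux c

lemma E12_reg (b : B) (hb : tD B b * (E1 B * E2 B) = 0) : b = 0 := by
  rw [tD_apply] at hb
  have := congrArg c3 hb
  change TrivSqZeroExt.snd (TrivSqZeroExt.snd ((TrivSqZeroExt.inl (TrivSqZeroExt.inl b) :
      DualNumber (DualNumber B)) * (algebraMap (DualNumber B) (DualNumber (DualNumber B)) DualNumber.eps *
    (DualNumber.eps : DualNumber (DualNumber B))))) = TrivSqZeroExt.snd (TrivSqZeroExt.snd (0 : DualNumber (DualNumber B))) at this
  simpa [TrivSqZeroExt.algebraMap_eq_inl'] using this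

end Ring

variable {S : Scheme.{u}} {B : Type u} [CommRing B] (f : Spec (CommRingCat.of B) ⟶ S)

/-- `Spec B[ε][ε']` -/
noncomputable abbrev Q2 : Over S := Pt f (tD B)

noncomputable abbrev ev1 : Q2 f ⟶ dpt B f := ev f (tD B) (E1 B) (E1_sq B)
noncomputable abbrev ev2 : Q2 f ⟶ dpt B f := ev f (tD B) (E2 B) (E2_sq B)
noncomputable abbrev ev12 : Q2 f ⟶ dpt B f := ev f (tD B) (E1 B * E2 B) (E12_sq B)

/-- The comparison `Spec D2 ⟶ d2pt`. -/
noncomputable def jj : Q2 f ⟶ d2pt B f :=
  Over.homMk (Spec.map (CommRingCat.ofHom (castD B))) (by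
    change Spec.map _ ≫ Spec.map _ ≫ Spec.map _ ≫ f = Spec.map _ ≫ f
    rw [← Category.assoc, specMap_comp, ← Category.assoc, specMap_comp]
    rfl)

lemma jj_left : (jj f).left = Spec.map (CommRingCat.ofHom (castD B)) := rfl

variable {X : Over S}

lemma cast_inv : Spec.map (CommRingCat.ofHom (castD' B)) ≫ Spec.map (CommRingCat.ofHom (castD B)) =
    𝟙 _ := by
  rw [specMap_comp]
  have : (castD' B).comp (castD B) = RingHom.id _ := rfl
  rw [this, CommRingCat.ofHom_id]
  exact Spec.map_id _

lemma jj_cancel {a b : d2pt B f ⟶ X} (h : jj f ≫ a = jj f ≫ b) : a = b := by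
  apply over_ext
  have h1 := congrArg (fun t => Spec.map (CommRingCat.ofHom (castD' B)) ≫ t.left) h
  simp only [Over.comp_left, jj_left] at h1
  erw [reassoc_of% (cast_inv (B := B)), reassoc_of% (cast_inv (B := B))] at h1
  exact h1

lemma ring_mul (x : DualNumber B) : castD B (mulHom B x) =
    dualHom (tD B) (E1 B * E2 B) (E12_sq B) x := rfl

lemma jj_mulMap : jj f ≫ mulMap B f = ev12 f := by
  apply over_ext
  rw [Over.comp_left, jj_left, ev_left]
  exact specMap_comp_eq _ _ _ ring_mul

lemma ring_proj (x : DualNumber B) : castD B (algebraMap (DualNumber B) (DualNumber (DualNumber B)) x) =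
    dualHom (tD B) (E1 B) (E1_sq B) x := by
  rw [dualHom_apply]
  change algebraMap (DualNumber B) (DualNumber (DualNumber B)) x =
    algebraMap (DualNumber B) (DualNumber (DualNumber B)) (algebraMap B (DualNumber B) x.fst) +
    algebraMap (DualNumber B) (DualNumber (DualNumber B)) (algebraMap B (DualNumber B) x.snd) *
    algebraMap (DualNumber B) (DualNumber (DualNumber B)) DualNumber.eps
  rw [← map_mul, ← map_add]
  congr 1
  apply TrivSqZeroExt.ext <;> simp [TrivSqZeroExt.algebraMap_eq_inl']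

/-- the projection. -/
noncomputable def ppi : d2pt B f ⟶ dpt B f := proj (DualNumber B) (dpt B f).hom

lemma jj_ppi : jj f ≫ ppi f = ev1 f := by
  apply over_ext
  exact specMap_comp_eq _ _ _ ring_proj

lemma ring_bc (x : DualNumber B) : castD B (bcHom (algebraMap B (DualNumber B)) x) =
    dualHom (tD B) (E2 B) (E2_sq B) x := rfl

/-- `ε ↦ ε'`. -/
noncomputable def rho : d2pt B f ⟶ dpt B f := dptMap f (algebraMap B (DualNumber B))

lemma jj_rho : jj f ≫ rho f = ev2 f := by
  apply over_ext
  exact specMap_comp_eq _ _ _ ring_bc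

section Group

variable (G : Over S) [GrpObj G]

variable {G} in
lemma comp_cm {T T' : Over S} (g : T' ⟶ T) (a b : T ⟶ G) : g ≫ cm a b = cm (g ≫ a) (g ≫ b) := by
  unfold cm
  rw [MonObj.comp_mul, MonObj.comp_mul, MonObj.comp_mul, GrpObj.comp_inv, GrpObj.comp_inv]

/-- The bracket relation, in terms of evaluations. -/
lemma isBracket_iff (x y z : Lie G B f) : IsBracket G B f x y z ↔
    ev12 f ≫ z.1 = cm (ev2 f ≫ x.1) (ev1 f ≫ y.1) := by
  have h1 : IsBracket G B f x y z ↔ mulMap B f ≫ z.1 =
      cm (rho f ≫ x.1 : d2pt B f ⟶ G)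
        (ppi f ≫ y.1) := Iff.rfl
  rw [h1, ← jj_mulMap, ← jj_ppi, ← jj_rho, Category.assoc, Category.assoc, Category.assoc,
    ← comp_cm]
  exact ⟨fun h => by rw [h], fun h => jj_cancel f h⟩

/-- uniqueness of the bracket -/
theorem isBracket_unique (x y z z' : Lie G B f) (h : IsBracket G B f x y z)
    (h' : IsBracket G B f x y z') : z = z' := by
  rw [isBracket_iff] at h h'
  apply Subtype.ext
  refine ev_injective f (tD B) (E1 B * E2 B) (E12_sq B) (fun c => ⟨_, E12_mul c⟩)
    E12_reg _ _ (h.trans h'.symm) ?_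
  rw [(mem_Lie_iff G B f z.1).1 z.2, (mem_Lie_iff G B f z'.1).1 z'.2]

variable {C : Type u} [CommRing C]

lemma ev_comm (x y : Lie G B f) (h : B →+* C) (s t : C) (hs : s * s = 0) (ht : t * t = 0)
    (hst : s * t = 0) : cm (ev f h s hs ≫ x.1) (ev f h t ht ≫ y.1) = 1 := by
  rw [cm_eq_one_iff]
  exact ev_mul_comm f x.1 y.1 x.2 y.2 h s t hs ht hst

lemma exists_of_comm (x y : Lie G B f) (C : Type u) [CommRing C] (k : DD B →+* C)
    (hk : k (E1 B * E2 B) = 0) :
    rm f (h := tD B) (h' := k.comp (tD B)) k rfl ≫ cm (ev2 f ≫ x.1) (ev1 f ≫ y.1) = 1 := by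
  rw [comp_cm, rm_ev_assoc f k rfl (E2 B) (E2_sq B) (k (E2 B)) (by rw [← map_mul, E2_sq, map_zero])
    rfl, rm_ev_assoc f k rfl (E1 B) (E1_sq B) (k (E1 B)) (by rw [← map_mul, E1_sq, map_zero]) rfl]
  refine ev_comm f G x y _ _ _ _ _ ?_
  rw [← map_mul, mul_comm, hk]

/-- existence of the bracket -/
theorem exists_isBracket (x y : Lie G B f) : ∃ z : Lie G B f, IsBracket G B f x y z := by
  obtain ⟨z, hz1, hz2⟩ := exists_ev f (tD B) (E1 B * E2 B) (E12_sq B)
    (fun c => ⟨_, E12_mul c⟩) E12_reg (X := G) (cm (ev2 f ≫ x.1) (ev1 f ≫ y.1)) 1 (by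
      rw [MonObj.comp_one]
      exact exists_of_comm f G x y _ _ (by
        rw [Ideal.Quotient.eq_zero_iff_mem]; exact Ideal.mem_span_singleton_self _))
  exact ⟨⟨z, hz2⟩, (isBracket_iff f G x y ⟨z, hz2⟩).2 hz1⟩

/-- The bracket. -/
noncomputable def brk (x y : Lie G B f) : Lie G B f := (exists_isBracket f G x y).choose

lemma isBracket_brk (x y : Lie G B f) : IsBracket G B f x y (brk f G x y) :=
  (exists_isBracket f G x y).choose_spec

lemma eq_brk {x y z : Lie G B f} (h : IsBracket G B f x y z) : z = brk f G x y :=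
  isBracket_unique f G x y _ _ h (isBracket_brk f G x y)

lemma ev12_brk (x y : Lie G B f) : ev12 f ≫ (brk f G x y).1 = cm (ev2 f ≫ x.1) (ev1 f ≫ y.1) :=
  (isBracket_iff f G x y _).1 (isBracket_brk f G x y)

/-- the map `D2 B → C`, `ε' ↦ s`, `ε ↦ t` -/
noncomputable def kk (h : B →+* C) (s t : C) (hs : s * s = 0) (ht : t * t = 0) : DD B →+* C :=
  (dualHom (dualHom h t ht) s hs).comp (castD' B)

lemma kk_tD (h : B →+* C) (s t : C) (hs : s * s = 0) (ht : t * t = 0) :
    (kk h s t hs ht).comp (tD B) = h := by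
  refine RingHom.ext fun b => ?_
  rw [RingHom.comp_apply, tD_apply]
  change dualHom (dualHom h t ht) s hs (TrivSqZeroExt.inl (TrivSqZeroExt.inl b)) = h b
  simp

lemma kk_E1 (h : B →+* C) (s t : C) (hs : s * s = 0) (ht : t * t = 0) :
    kk h s t hs ht (E1 B) = t := by
  change dualHom (dualHom h t ht) s hs
    (algebraMap (DualNumber B) (DualNumber (DualNumber B)) DualNumber.eps) = t
  simp [TrivSqZeroExt.algebraMap_eq_inl']

lemma kk_E2 (h : B →+* C) (s t : C) (hs : s * s = 0) (ht : t * t = 0) :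
    kk h s t hs ht (E2 B) = s := by
  change dualHom (dualHom h t ht) s hs (DualNumber.eps : DualNumber (DualNumber B)) = s
  simp

/-- `[x(s), y(t)] = [x, y](t s)`. -/
lemma ev_commutator (x y : Lie G B f) (h : B →+* C) (s t w : C) (hs : s * s = 0) (ht : t * t = 0)
    (hw : w * w = 0) (e : w = t * s) :
    cm (ev f h s hs ≫ x.1) (ev f h t ht ≫ y.1) = ev f h w hw ≫ (brk f G x y).1 := by
  subst e
  have h2 := congrArg (fun z => rm f (kk h s t hs ht) (kk_tD h s t hs ht) ≫ z) (ev12_brk f G x y)
  rw [comp_cm, rm_ev_assoc f _ _ _ _ s hs (kk_E2 h s t hs ht),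
    rm_ev_assoc f _ _ _ _ t ht (kk_E1 h s t hs ht),
    rm_ev_assoc f _ _ _ _ (t * s) hw (by rw [map_mul, kk_E1, kk_E2])] at h2
  exact h2.symm

/-- Two elements with the same evaluation at `ε ε'` are equal. -/
lemma eq_of_ev12 {x y : Lie G B f} (h : ev12 f ≫ x.1 = ev12 f ≫ y.1) : x = y := by
  apply Subtype.ext
  refine ev_injective f (tD B) (E1 B * E2 B) (E12_sq B) (fun c => ⟨_, E12_mul c⟩)
    E12_reg _ _ h ?_
  rw [(mem_Lie_iff G B f x.1).1 x.2, (mem_Lie_iff G B f y.1).1 y.2]

variable {G} in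
lemma ev_mul (x y : Lie G B f) {T : Over S} (g : T ⟶ dpt B f) :
    g ≫ (x * y : Lie G B f).1 = (g ≫ x.1) * (g ≫ y.1) :=
  MonObj.comp_mul _ _ _

variable {G} in
lemma ev_inv (x : Lie G B f) {T : Over S} (g : T ⟶ dpt B f) :
    g ≫ (x⁻¹ : Lie G B f).1 = (g ≫ x.1)⁻¹ :=
  GrpObj.comp_inv _ _

variable {G} in
lemma ev_smul (b : B) (x : Lie G B f) (h : B →+* C) (s : C) (hs : s * s = 0) (s' : C)
    (hs' : s' * s' = 0) (e : h b * s = s') :
    ev f h s hs ≫ (b • x : Lie G B f).1 = ev f h s' hs' ≫ x.1 := by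
  rw [smul_val, ← Category.assoc, ev_scale f h s hs b s' hs' e]

/-- commutativity -/
theorem lie_mul_comm (x y : Lie G B f) : x * y = y * x := by
  apply Subtype.ext
  apply eq_of_ev_eps
  rw [ev_mul, ev_mul]
  exact ev_mul_comm f x.1 y.1 x.2 y.2 (algebraMap B (DualNumber B)) DualNumber.eps
    DualNumber.eps (eps_sq B) (eps_sq B) (eps_sq B)

end Group

end K988.LieBrk
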