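import Groth.Prelude.Def_LieS
import Groth.Agent.FlatB.PushSpec

/-!
# Calculus of points with values in dual numbers

For a ring `C` over `B` and `s ∈ C` with `s² = 0`, a point `x` of `X` with values in `B[ε]` can be
evaluated at `s`.  Products of evaluations at `s` and `t` with `s t = 0` behave additively.
-/

set_option autoImplicit false
set_option linter.style.haveILetI false
set_option linter.unusedSectionVars false
set_option linter.unusedVariables false

universe u

open CategoryTheory MonoidalCategory CartesianMonoidalCategory MonObj GrpObj AlgebraicGeometry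
open Groth.Agent.FlatB.PushRing

namespace K988.LieCalc

open LieS

variable {S : Scheme.{u}} {B : Type u} [CommRing B] (f : Spec (CommRingCat.of B) ⟶ S)
variable {C C' : Type u} [CommRing C] [CommRing C']

/-- `Spec C` as an `S`-scheme, for a `B`-algebra `C`. -/
noncomputable abbrev Pt (h : B →+* C) : Over S := pt C (Spec.map (CommRingCat.ofHom h) ≫ f)

/-- The morphism attached to a ring map. -/
noncomputable def rm {h : B →+* C} {h' : B →+* C'} (k : C →+* C') (hk : k.comp h = h') :
    Pt f h' ⟶ Pt f h :=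
  Over.homMk (Spec.map (CommRingCat.ofHom k)) (by
    subst hk
    change Spec.map _ ≫ Spec.map _ ≫ f = Spec.map _ ≫ f
    rw [← Category.assoc, specMap_comp])

lemma rm_left {h : B →+* C} {h' : B →+* C'} (k : C →+* C') (hk : k.comp h = h') :
    (rm f k hk).left = Spec.map (CommRingCat.ofHom k) := rfl

/-- Evaluation at a square-zero element. -/
noncomputable def ev (h : B →+* C) (s : C) (hs : s * s = 0) : Pt f h ⟶ dpt B f :=
  Over.homMk (Spec.map (CommRingCat.ofHom (dualHom h s hs))) (by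
    change Spec.map _ ≫ Spec.map _ ≫ f = Spec.map _ ≫ f
    rw [← Category.assoc, specMap_comp, dualHom_comp_algebraMap])

lemma ev_left (h : B →+* C) (s : C) (hs : s * s = 0) :
    (ev f h s hs).left = Spec.map (CommRingCat.ofHom (dualHom h s hs)) := rfl

lemma over_ext {X Y : Over S} {a b : X ⟶ Y} (h : a.left = b.left) : a = b :=
  Over.OverMorphism.ext h

lemma specMap_comp_eq {R R' R'' : Type u} [CommRing R] [CommRing R'] [CommRing R''] (a : R →+* R')
    (b : R' →+* R'') (c : R →+* R'') (h : ∀ x, b (a x) = c x) :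
    Spec.map (CommRingCat.ofHom b) ≫ Spec.map (CommRingCat.ofHom a) =
      Spec.map (CommRingCat.ofHom c) := by
  rw [specMap_comp]
  congr 2
  exact RingHom.ext h

lemma specMap_sq {R R₁ R₂ R' : Type u} [CommRing R] [CommRing R'] [CommRing R₁] [CommRing R₂]
    (a : R →+* R₁) (b : R₁ →+* R') (c : R →+* R₂) (d : R₂ →+* R') (h : ∀ x, b (a x) = d (c x)) :
    Spec.map (CommRingCat.ofHom b) ≫ Spec.map (CommRingCat.ofHom a) =
      Spec.map (CommRingCat.ofHom d) ≫ Spec.map (CommRingCat.ofHom c) := by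
  rw [specMap_comp, specMap_comp]
  congr 2
  exact RingHom.ext h

lemma rm_ev {h : B →+* C} {h' : B →+* C'} (k : C →+* C') (hk : k.comp h = h') (s : C)
    (hs : s * s = 0) (s' : C') (hs' : s' * s' = 0) (e : k s = s') :
    rm f k hk ≫ ev f h s hs = ev f h' s' hs' := by
  subst hk e
  exact over_ext (specMap_comp_eq _ _ _ fun x => by simp)

lemma rm_ev_assoc {h : B →+* C} {h' : B →+* C'} (k : C →+* C') (hk : k.comp h = h') (s : C)
    (hs : s * s = 0) (s' : C') (hs' : s' * s' = 0) (e : k s = s') {X : Over S} (x : dpt B f ⟶ X) :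
    rm f k hk ≫ ev f h s hs ≫ x = ev f h' s' hs' ≫ x := by
  rw [← Category.assoc, rm_ev f k hk s hs s' hs' e]

lemma ev_congr (h : B →+* C) (s t : C) (hs : s * s = 0) (ht : t * t = 0) (e : s = t) :
    ev f h s hs = ev f h t ht := by subst e; rfl

lemma ev_scale (h : B →+* C) (s : C) (hs : s * s = 0) (b : B) (s' : C) (hs' : s' * s' = 0)
    (e : h b * s = s') :
    ev f h s hs ≫ scale B f b = ev f h s' hs' := by
  subst e
  refine over_ext (specMap_comp_eq _ _ _ fun x => ?_)
  simp only [dualHom_apply, scaleHom, TrivSqZeroExt.algebraMap_eq_inl',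
    Algebra.algebraMap_self, RingHom.id_apply, TrivSqZeroExt.fst_add, TrivSqZeroExt.fst_inl,
    TrivSqZeroExt.fst_mul, DualNumber.fst_eps, mul_zero, add_zero, TrivSqZeroExt.snd_add,
    TrivSqZeroExt.snd_inl, DualNumber.snd_mul, DualNumber.snd_eps, _root_.mul_one, zero_add,
    map_mul]
  ring

variable {X : Over S}

lemma ev_zero (h : B →+* C) (s : C) (hs : s * s = 0) (h0 : s = 0) :
    ev f h s hs = (Over.homMk (Spec.map (CommRingCat.ofHom h)) rfl : Pt f h ⟶ pt B f) ≫ zeroSec B f := by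
  subst h0
  exact over_ext (specMap_comp_eq _ _ _ fun x => by simp).symm

lemma ev_zero_comp [MonObj X] (x : dpt B f ⟶ X) (hx : zeroSec B f ≫ x = 1) (h : B →+* C) (s : C)
    (hs : s * s = 0) (h0 : s = 0) : ev f h s hs ≫ x = 1 := by
  rw [ev_zero f h s hs h0, Category.assoc, hx, MonObj.comp_one]

section Two

/-- `B[ε₁, ε₂]/(ε₁, ε₂)²` as a fibre product. -/
abbrev D11 (B : Type u) [CommRing B] : Type u :=
  eqL (TrivSqZeroExt.fstHom B B B).toRingHom (TrivSqZeroExt.fstHom B B B).toRingHom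

/-- `B → D11 B`. -/
noncomputable def toD11 (B : Type u) [CommRing B] : B →+* D11 B :=
  eqL.lift (algebraMap B (DualNumber B)) (algebraMap B (DualNumber B)) rfl

/-- The first coordinate. -/
def e₁ (B : Type u) [CommRing B] : D11 B := ⟨(DualNumber.eps, 0), by simp⟩

/-- The second coordinate. -/
def e₂ (B : Type u) [CommRing B] : D11 B := ⟨(0, DualNumber.eps), by simp⟩

lemma e₁_sq : e₁ B * e₁ B = 0 := by
  apply Subtype.ext
  change ((DualNumber.eps * DualNumber.eps, 0 * 0) : DualNumber B × DualNumber B) = (0, 0)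
  rw [eps_sq, mul_zero]

lemma e₂_sq : e₂ B * e₂ B = 0 := by
  apply Subtype.ext
  change ((0 * 0, DualNumber.eps * DualNumber.eps) : DualNumber B × DualNumber B) = (0, 0)
  rw [eps_sq, mul_zero]

/-- The map `D11 B → C` attached to two elements `s, t` with `s² = t² = s t = 0`. -/
noncomputable def d11Hom (h : B →+* C) (s t : C) (hs : s * s = 0) (ht : t * t = 0) (hst : s * t = 0) :
    D11 B →+* C where
  toFun x := h x.1.1.fst + h x.1.1.snd * s + h x.1.2.snd * t
  map_one' := by simp
  map_mul' x y := by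
    have hx : x.1.1.fst = x.1.2.fst := x.2
    have hy : y.1.1.fst = y.1.2.fst := y.2
    simp only [Subring.coe_mul, Prod.fst_mul, Prod.snd_mul, TrivSqZeroExt.fst_mul,
      DualNumber.snd_mul, map_mul, map_add, ← hx, ← hy]
    linear_combination (-(h x.1.1.snd * h y.1.1.snd)) * hs - (h x.1.2.snd * h y.1.2.snd) * ht
      - (h x.1.1.snd * h y.1.2.snd + h x.1.2.snd * h y.1.1.snd) * hst
  map_zero' := by simp
  map_add' x y := by
    simp only [Subring.coe_add, Prod.fst_add, Prod.snd_add, TrivSqZeroExt.fst_add,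
      TrivSqZeroExt.snd_add, map_add]
    ring

lemma d11Hom_comp (h : B →+* C) (s t : C) (hs : s * s = 0) (ht : t * t = 0) (hst : s * t = 0) :
    (d11Hom h s t hs ht hst).comp (toD11 B) = h := by
  refine RingHom.ext fun b => ?_
  change h (algebraMap B (DualNumber B) b).fst + h (algebraMap B (DualNumber B) b).snd * s +
    h (algebraMap B (DualNumber B) b).snd * t = h b
  simp [TrivSqZeroExt.algebraMap_eq_inl']

lemma d11Hom_e₁ (h : B →+* C) (s t : C) (hs : s * s = 0) (ht : t * t = 0) (hst : s * t = 0) :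
    d11Hom h s t hs ht hst (e₁ B) = s := by
  simp [d11Hom, e₁]

lemma d11Hom_e₂ (h : B →+* C) (s t : C) (hs : s * s = 0) (ht : t * t = 0) (hst : s * t = 0) :
    d11Hom h s t hs ht hst (e₂ B) = t := by
  simp [d11Hom, e₂]

lemma fst_comp_toD11 : (eqL.fst _ _).comp (toD11 B) = algebraMap B (DualNumber B) := rfl
lemma snd_comp_toD11 : (eqL.snd _ _).comp (toD11 B) = algebraMap B (DualNumber B) := rfl

/-- Two points over `D11 B` which agree after each projection are equal. -/
lemma d11_ext {a b : Pt f (toD11 B) ⟶ X}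
    (h₁ : rm f (eqL.fst _ _) fst_comp_toD11 ≫ a = rm f (eqL.fst _ _) fst_comp_toD11 ≫ b)
    (h₂ : rm f (eqL.snd _ _) snd_comp_toD11 ≫ a = rm f (eqL.snd _ _) snd_comp_toD11 ≫ b) :
    a = b := by
  apply over_ext
  have hp := Groth.Agent.FlatB.PushSpec.isPushout_Spec (TrivSqZeroExt.fstHom B B B).toRingHom
    (TrivSqZeroExt.fstHom B B B).toRingHom (fun b => ⟨algebraMap B (DualNumber B) b, by
      simp [TrivSqZeroExt.algebraMap_eq_inl']⟩)
  refine hp.hom_ext ?_ ?_
  · exact congrArg (fun t => t.left) h₁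
  · exact congrArg (fun t => t.left) h₂

variable [MonObj X] (x y : dpt B f ⟶ X) (hx : zeroSec B f ≫ x = 1) (hy : zeroSec B f ≫ y = 1)

include hx hy in
/-- Evaluations at `s` and `t` with `s t = 0` commute. -/
lemma ev_mul_comm (h : B →+* C) (s t : C) (hs : s * s = 0) (ht : t * t = 0) (hst : s * t = 0) :
    (ev f h s hs ≫ x) * (ev f h t ht ≫ y) = (ev f h t ht ≫ y) * (ev f h s hs ≫ x) := by
  have key : (ev f (toD11 B) (e₁ B) e₁_sq ≫ x) * (ev f (toD11 B) (e₂ B) e₂_sq ≫ y) =
      (ev f (toD11 B) (e₂ B) e₂_sq ≫ y) * (ev f (toD11 B) (e₁ B) e₁_sq ≫ x) := by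
    apply d11_ext
    · rw [MonObj.comp_mul, MonObj.comp_mul, rm_ev_assoc f _ _ (e₂ B) _ 0 (by simp) rfl,
        ev_zero_comp f y hy _ _ _ rfl, _root_.mul_one, _root_.one_mul]
    · rw [MonObj.comp_mul, MonObj.comp_mul, rm_ev_assoc f _ _ (e₁ B) _ 0 (by simp) rfl,
        ev_zero_comp f x hx _ _ _ rfl, _root_.mul_one, _root_.one_mul]
  have := congrArg (fun z => rm f (d11Hom h s t hs ht hst) (d11Hom_comp _ _ _ _ _ _) ≫ z) key
  rw [MonObj.comp_mul, MonObj.comp_mul,
    rm_ev_assoc f _ _ (e₁ B) _ s hs (d11Hom_e₁ _ _ _ _ _ _),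
    rm_ev_assoc f _ _ (e₂ B) _ t ht (d11Hom_e₂ _ _ _ _ _ _)] at this
  exact this

include hx in
/-- Evaluation is additive in `s, t` with `s t = 0`. -/
lemma ev_add (h : B →+* C) (s t : C) (hs : s * s = 0) (ht : t * t = 0) (hst : s * t = 0) (w : C)
    (hw : w * w = 0) (e : w = s + t) :
    ev f h w hw ≫ x = (ev f h s hs ≫ x) * (ev f h t ht ≫ x) := by
  subst e
  have h0 : (e₁ B + e₂ B) * (e₁ B + e₂ B) = 0 := by
    apply Subtype.ext
    change (((DualNumber.eps + 0) * (DualNumber.eps + 0), (0 + DualNumber.eps) *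
      (0 + DualNumber.eps)) : DualNumber B × DualNumber B) = (0, 0)
    rw [add_zero, zero_add, eps_sq]
  have key : ev f (toD11 B) (e₁ B + e₂ B) h0 ≫ x =
      (ev f (toD11 B) (e₁ B) e₁_sq ≫ x) * (ev f (toD11 B) (e₂ B) e₂_sq ≫ x) := by
    apply d11_ext
    · rw [MonObj.comp_mul, rm_ev_assoc f _ _ (e₂ B) _ 0 (by simp) rfl,
        ev_zero_comp f x hx _ _ _ rfl, _root_.mul_one,
        rm_ev_assoc f _ _ (e₁ B) _ DualNumber.eps (eps_sq B) rfl,
        rm_ev_assoc f _ _ (e₁ B + e₂ B) _ DualNumber.eps (eps_sq B) (add_zero _)]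
    · rw [MonObj.comp_mul, rm_ev_assoc f _ _ (e₁ B) _ 0 (by simp) rfl,
        ev_zero_comp f x hx _ _ _ rfl, _root_.one_mul,
        rm_ev_assoc f _ _ (e₂ B) _ DualNumber.eps (eps_sq B) rfl,
        rm_ev_assoc f _ _ (e₁ B + e₂ B) _ DualNumber.eps (eps_sq B) (zero_add _)]
  have := congrArg (fun z => rm f (d11Hom h s t hs ht hst) (d11Hom_comp _ _ _ _ _ _) ≫ z) key
  rw [MonObj.comp_mul,
    rm_ev_assoc f _ _ (e₁ B) _ s hs (d11Hom_e₁ _ _ _ _ _ _),
    rm_ev_assoc f _ _ (e₂ B) _ t ht (d11Hom_e₂ _ _ _ _ _ _),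
    rm_ev_assoc f _ _ (e₁ B + e₂ B) _ (s + t) hw (by rw [map_add, d11Hom_e₁, d11Hom_e₂])] at this
  exact this

omit [MonObj X] in
/-- Evaluation at `ε` over `B[ε]`, up to the identification of `dpt`. -/
lemma ev_eps_left : (ev f (algebraMap B (DualNumber B)) DualNumber.eps (eps_sq B)).left =
    𝟙 (Spec (CommRingCat.of (DualNumber B))) := by
  have h : dualHom (algebraMap B (DualNumber B)) DualNumber.eps (eps_sq B) = RingHom.id _ := by
    refine RingHom.ext fun x => ?_
    rw [dualHom_apply, RingHom.id_apply]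
    apply TrivSqZeroExt.ext <;> simp [TrivSqZeroExt.algebraMap_eq_inl']
  rw [ev_left, h, CommRingCat.ofHom_id]
  exact Spec.map_id _

omit [MonObj X] in
lemma eq_of_ev_eps {x y : dpt B f ⟶ X}
    (h : ev f (algebraMap B (DualNumber B)) DualNumber.eps (eps_sq B) ≫ x =
      ev f (algebraMap B (DualNumber B)) DualNumber.eps (eps_sq B) ≫ y) : x = y := by
  apply over_ext
  have h1 := congrArg (fun t => t.left) h
  rw [Over.comp_left, Over.comp_left, ev_eps_left] at h1
  exact (Category.id_comp _).symm.trans (h1.trans (Category.id_comp _))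

end Two

end K988.LieCalc
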