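import Groth.Agent.LieS.K988.Calc

/-!
# Centralisers and invariance under the adjoint action
-/

set_option autoImplicit false
set_option linter.style.haveILetI false
set_option linter.unusedSectionVars false
set_option linter.unusedVariables false

universe u

open CategoryTheory MonoidalCategory CartesianMonoidalCategory MonObj GrpObj AlgebraicGeometry

namespace K988.LieCentral

open LieS K988.LieCalc

variable {S : Scheme.{u}} {B : Type u} [CommRing B] (f : Spec (CommRingCat.of B) ⟶ S)

/-- The section of the dual numbers attached to a square-zero element. -/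
noncomputable def sec {C : Type u} [CommRing C] (f' : Spec (CommRingCat.of C) ⟶ S) (s : C)
    (hs : s * s = 0) : pt C f' ⟶ dpt C f' :=
  Over.homMk (Spec.map (CommRingCat.ofHom (dualHom (RingHom.id C) s hs))) (by
    change Spec.map _ ≫ Spec.map _ ≫ f' = f'
    rw [← Category.assoc, specMap_comp, dualHom_comp_algebraMap, CommRingCat.ofHom_id]
    erw [Spec.map_id]; exact Category.id_comp f')

lemma sec_proj {C : Type u} [CommRing C] (f' : Spec (CommRingCat.of C) ⟶ S) (s : C)
    (hs : s * s = 0) : sec f' s hs ≫ proj C f' = 𝟙 _ := by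
  apply over_ext
  change Spec.map _ ≫ Spec.map _ = 𝟙 _
  rw [specMap_comp, dualHom_comp_algebraMap, CommRingCat.ofHom_id]
  exact Spec.map_id _

lemma sec_dptMap {C : Type u} [CommRing C] (h : B →+* C) (s : C) (hs : s * s = 0) :
    sec (Spec.map (CommRingCat.ofHom h) ≫ f) s hs ≫ dptMap f h = ev f h s hs := by
  refine over_ext (specMap_comp_eq _ _ _ fun x => ?_)
  simp [bcHom, TrivSqZeroExt.algebraMap_eq_inl']

variable (G K : Over S) [GrpObj G] [GrpObj K] (i : K ⟶ G)
  [IsMonHom i] (x : Lie G B f)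

lemma affine_case (H : ∀ (B' : Type u) [CommRing B'] (h : B →+* B')
      (k : LieS.pt B' (Spec.map (CommRingCat.ofHom h) ≫ f) ⟶ K),
      LieS.Ad G B' (Spec.map (CommRingCat.ofHom h) ≫ f) (k ≫ i) (LieS.pull G f h x) = LieS.pull G f h x)
    (C : CommRingCat.{u}) (p : Spec C ⟶ S) (y : Over.mk p ⟶ dpt B f) (k : Over.mk p ⟶ K) :
    (y ≫ x.1) * (k ≫ i) = (k ≫ i) * (y ≫ x.1) := by
  obtain ⟨φ, hφ⟩ := Spec.map_surjective (R := CommRingCat.of (DualNumber B)) (S := C) y.left
  have hp : Spec.map φ ≫ Spec.map (CommRingCat.ofHom (algebraMap B (DualNumber B))) ≫ f = p := by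
    rw [hφ]
    exact Over.w y
  let h : B →+* C := φ.hom.comp (algebraMap B (DualNumber B))
  let s : C := φ.hom DualNumber.eps
  have hs : s * s = 0 := by
    change φ.hom DualNumber.eps * φ.hom DualNumber.eps = 0
    rw [← map_mul, eps_sq, map_zero]
  have hφ' : φ.hom = dualHom h s hs := by
    refine RingHom.ext fun z => ?_
    rw [dualHom_apply]
    change φ.hom z = φ.hom (algebraMap B (DualNumber B) z.fst) +
      φ.hom (algebraMap B (DualNumber B) z.snd) * φ.hom DualNumber.eps
    rw [← map_mul, ← map_add]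
    congr 1
    apply TrivSqZeroExt.ext <;> simp [TrivSqZeroExt.algebraMap_eq_inl']
  have hp' : p = Spec.map (CommRingCat.ofHom h) ≫ f := by
    rw [← hp, ← Category.assoc, ← Spec.map_comp]
    rfl
  subst hp'
  have hy : y = ev f h s hs := by
    apply over_ext
    rw [ev_left, ← hφ', ← hφ]
    rfl
  subst hy
  have h1 : (proj C (Spec.map (CommRingCat.ofHom h) ≫ f) ≫ k ≫ i) * (dptMap f h ≫ x.1) *
      (proj C (Spec.map (CommRingCat.ofHom h) ≫ f) ≫ k ≫ i)⁻¹ = dptMap f h ≫ x.1 :=
    congrArg Subtype.val (H C h k)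
  rw [mul_inv_eq_iff_eq_mul] at h1
  have h2 := congrArg (fun t => sec (Spec.map (CommRingCat.ofHom h) ≫ f) s hs ≫ t) h1
  simp only [MonObj.comp_mul] at h2
  rw [← Category.assoc _ (proj C (Spec.map (CommRingCat.ofHom h) ≫ f)), sec_proj,
    Category.id_comp, ← Category.assoc _ (dptMap f h), sec_dptMap] at h2
  exact h2.symm

theorem centralizer_iff :
    (∀ (X' : Over S) (y : X' ⟶ LieS.dpt B f) (h : X' ⟶ K), (y ≫ x.1) * (h ≫ i) = (h ≫ i) * (y ≫ x.1)) ↔
    (∀ (B' : Type u) [CommRing B'] (h : B →+* B')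
      (k : LieS.pt B' (Spec.map (CommRingCat.ofHom h) ≫ f) ⟶ K),
      LieS.Ad G B' (Spec.map (CommRingCat.ofHom h) ≫ f) (k ≫ i) (LieS.pull G f h x) =
        LieS.pull G f h x) := by
  constructor
  · intro H B' _ h k
    apply Subtype.ext
    have h1 := H _ (dptMap f h) (proj B' _ ≫ k)
    change (proj B' _ ≫ k ≫ i) * (dptMap f h ≫ x.1) * (proj B' _ ≫ k ≫ i)⁻¹ = dptMap f h ≫ x.1
    rw [mul_inv_eq_iff_eq_mul]
    rw [Category.assoc] at h1
    exact h1.symm
  · intro H X' y h
    apply over_ext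
    refine Scheme.Cover.hom_ext X'.left.affineOpenCover.openCover _ _ fun j => ?_
    let g : Over.mk (X'.left.affineOpenCover.f j ≫ X'.hom) ⟶ X' :=
      Over.homMk (X'.left.affineOpenCover.f j) rfl
    have h2 := affine_case f G K i x H _ (X'.left.affineOpenCover.f j ≫ X'.hom) (g ≫ y) (g ≫ h)
    rw [Category.assoc, Category.assoc, ← MonObj.comp_mul, ← MonObj.comp_mul] at h2
    exact congrArg (fun t => t.left) h2

end K988.LieCentral
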