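import Groth.Agent.LieS.K988.Scale
import Groth.Prelude.Def_Red

/-!
# The Lie algebra of a diagonalisable group
-/

set_option autoImplicit false
set_option linter.style.haveILetI false
set_option linter.unusedSectionVars false
set_option linter.unusedVariables false

universe u

open CategoryTheory MonoidalCategory CartesianMonoidalCategory MonObj GrpObj AlgebraicGeometry

namespace K988.LieDiag

open LieS K988.LieCalc

section Basic

variable (R : Type u) [CommRing R]

/-- `Spec T` over `Spec R`. -/
noncomputable abbrev sO (T : Type u) [CommRing T] [Algebra R T] : Over (Spec (CommRingCat.of R)) :=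
  (Spec (CommRingCat.of T)).asOver (Spec (CommRingCat.of R))

variable {R} {T T' : Type u} [CommRing T] [Algebra R T] [CommRing T'] [Algebra R T']

/-- `Spec` of an algebra map. -/
noncomputable def sp (φ : T →ₐ[R] T') : sO R T' ⟶ sO R T :=
  (Spec.map (CommRingCat.ofHom φ.toRingHom)).asOver _

lemma sp_left (φ : T →ₐ[R] T') : (sp φ).left = Spec.map (CommRingCat.ofHom φ.toRingHom) := rfl

lemma mme_left {A : Type u} [CommRing A] [Bialgebra R A] (ψ : WithConv (A →ₐ[R] T)) :
    (Spec.mapMulEquiv ψ).left = Spec.map (CommRingCat.ofHom ψ.ofConv.toRingHom) := rfl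

lemma sp_mme {A : Type u} [CommRing A] [Bialgebra R A] (φ : T →ₐ[R] T')
    (ψ : WithConv (A →ₐ[R] T)) (χ : WithConv (A →ₐ[R] T')) (h : ∀ a, φ (ψ.ofConv a) = χ.ofConv a) :
    sp φ ≫ Spec.mapMulEquiv ψ = Spec.mapMulEquiv χ := by
  apply over_ext
  rw [Over.comp_left, sp_left, mme_left, mme_left]
  exact specMap_comp_eq _ _ _ h

end Basic

section Diag

variable (R : Type u) [CommRing R] (M : Type) [AddCommGroup M] (B : Type u) [CommRing B] [Algebra R B]

/-- characters as points of the group algebra -/
noncomputable def algPt (T : Type u) [CommRing T] [Algebra R T] :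
    (Multiplicative M →* T) ≃* WithConv (MonoidAlgebra R (Multiplicative M) →ₐ[R] T) where
  toFun χ := WithConv.toConv (MonoidAlgebra.lift R T (Multiplicative M) χ)
  invFun φ := (MonoidAlgebra.lift R T (Multiplicative M)).symm φ.ofConv
  left_inv χ := by simp
  right_inv φ := by simp
  map_mul' χ χ' := by
    apply WithConv.ofConv_injective
    rw [WithConv.ofConv_toConv]
    refine MonoidAlgebra.algHom_ext (fun n => ?_) (Subsingleton.elim _ _)
    rw [AlgHom.convMul_def]
    simp

lemma algPt_apply (T : Type u) [CommRing T] [Algebra R T] (χ : Multiplicative M →* T)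
    (m : Multiplicative M) : (algPt R M T χ).ofConv (MonoidAlgebra.single m 1) = χ m := by
  simp [algPt]

/-- The multiplicative equivalence of characters with points. -/
noncomputable def chPt (T : Type u) [CommRing T] [Algebra R T] :
    (Multiplicative M →* T) ≃* (sO R T ⟶ Red.diag R M) :=
  (algPt R M T).trans (Spec.mapMulEquiv (R := R) (S := MonoidAlgebra R (Multiplicative M)) (T := T))

lemma sp_chPt {T T' : Type u} [CommRing T] [Algebra R T] [CommRing T'] [Algebra R T']
    (φ : T →ₐ[R] T') (χ : Multiplicative M →* T) :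
    sp φ ≫ chPt R M T χ = chPt R M T' ((φ : T →* T').comp χ) := by
  refine sp_mme φ _ _ fun a => ?_
  have : φ.comp (MonoidAlgebra.lift R T (Multiplicative M) χ) =
      MonoidAlgebra.lift R T' (Multiplicative M) ((φ : T →* T').comp χ) := by
    refine MonoidAlgebra.algHom_ext (fun n => ?_) (Subsingleton.elim _ _)
    simp
  exact congrArg (fun z => z a) this

/-- The comparison for points. -/
noncomputable def ptIso : pt B (Spec.map (CommRingCat.ofHom (algebraMap R B))) ≅ sO R B :=
  Over.isoMk (Iso.refl (Spec (CommRingCat.of B))) (by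
    change 𝟙 _ ≫ Spec.map _ = Spec.map _
    rw [Category.id_comp])

/-- First component. -/
noncomputable def fstA : DualNumber B →ₐ[R] B where
  toRingHom := (TrivSqZeroExt.fstHom B B B).toRingHom
  commutes' r := by
    change TrivSqZeroExt.fst (algebraMap R (DualNumber B) r) = _
    rfl

/-- scaling -/
noncomputable def scaleA (b : B) : DualNumber B →ₐ[R] DualNumber B where
  toRingHom := scaleHom b
  commutes' r := by
    rw [← algebraMap_comp_eq]
    change scaleHom b (algebraMap B (DualNumber B) (algebraMap R B r)) = _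
    have := congrArg (fun z => z (algebraMap R B r)) (scaleHom_comp_algebraMap b)
    exact this

lemma dptIso_left : (dptIso (R := R) B).hom.left = 𝟙 (Spec (CommRingCat.of (DualNumber B))) := rfl

lemma ptIso_left : (ptIso R B).hom.left = 𝟙 (Spec (CommRingCat.of B)) := rfl

lemma zeroSec_left (f : Spec (CommRingCat.of B) ⟶ Spec (CommRingCat.of R)) :
    (zeroSec B f).left = Spec.map (CommRingCat.ofHom (TrivSqZeroExt.fstHom B B B).toRingHom) := rfl

lemma scale_left (f : Spec (CommRingCat.of B) ⟶ Spec (CommRingCat.of R)) (b : B) :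
    (scale B f b).left = Spec.map (CommRingCat.ofHom (scaleHom b)) := rfl

lemma id_sq {X Y : Scheme.{u}} (a b : X ⟶ Y) (h : a = b) : a ≫ 𝟙 Y = 𝟙 X ≫ b := by
  rw [h, Category.comp_id, Category.id_comp]

lemma fstA_toRingHom : (fstA R B).toRingHom = (TrivSqZeroExt.fstHom B B B).toRingHom := rfl

lemma scaleA_toRingHom (b : B) : (scaleA R B b).toRingHom = scaleHom b := rfl

lemma zeroSec_sq : zeroSec B (Spec.map (CommRingCat.ofHom (algebraMap R B))) ≫ (dptIso B).hom =
    (ptIso R B).hom ≫ sp (fstA R B) := by
  apply over_ext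
  rw [Over.comp_left, Over.comp_left]
  exact id_sq (Spec.map (CommRingCat.ofHom (TrivSqZeroExt.fstHom B B B).toRingHom))
    (Spec.map (CommRingCat.ofHom (fstA R B).toRingHom)) (by rw [fstA_toRingHom])

lemma scale_sq (b : B) : scale B (Spec.map (CommRingCat.ofHom (algebraMap R B))) b ≫ (dptIso B).hom =
    (dptIso B).hom ≫ sp (scaleA R B b) := by
  apply over_ext
  rw [Over.comp_left, Over.comp_left]
  exact id_sq (Spec.map (CommRingCat.ofHom (scaleHom b)))
    (Spec.map (CommRingCat.ofHom (scaleA R B b).toRingHom)) (by rw [scaleA_toRingHom])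

/-- The character attached to a point over the dual numbers. -/
noncomputable def chv (v : dpt B (Spec.map (CommRingCat.ofHom (algebraMap R B))) ⟶ Red.diag R M) :
    Multiplicative M →* DualNumber B :=
  (chPt R M (DualNumber B)).symm ((dptIso B).inv ≫ v)

lemma chv_mul (v w : dpt B (Spec.map (CommRingCat.ofHom (algebraMap R B))) ⟶ Red.diag R M) :
    chv R M B (v * w) = chv R M B v * chv R M B w := by
  unfold chv
  rw [MonObj.comp_mul, map_mul]

/-- The inverse construction. -/
noncomputable def vch (χ : Multiplicative M →* DualNumber B) :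
    dpt B (Spec.map (CommRingCat.ofHom (algebraMap R B))) ⟶ Red.diag R M :=
  (dptIso B).hom ≫ chPt R M (DualNumber B) χ

lemma chv_vch (χ : Multiplicative M →* DualNumber B) : chv R M B (vch R M B χ) = χ := by
  unfold chv vch
  rw [Iso.inv_hom_id_assoc, MulEquiv.symm_apply_apply]

lemma vch_chv (v : dpt B (Spec.map (CommRingCat.ofHom (algebraMap R B))) ⟶ Red.diag R M) :
    vch R M B (chv R M B v) = v := by
  unfold chv vch
  rw [MulEquiv.apply_symm_apply, Iso.hom_inv_id_assoc]

lemma zeroSec_vch (χ : Multiplicative M →* DualNumber B) :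
    zeroSec B (Spec.map (CommRingCat.ofHom (algebraMap R B))) ≫ vch R M B χ =
      (ptIso R B).hom ≫ chPt R M B ((fstA R B : DualNumber B →* B).comp χ) := by
  unfold vch
  rw [← Category.assoc, zeroSec_sq, Category.assoc, sp_chPt]

lemma scale_vch (b : B) (χ : Multiplicative M →* DualNumber B) :
    scale B (Spec.map (CommRingCat.ofHom (algebraMap R B))) b ≫ vch R M B χ =
      vch R M B ((scaleA R B b : DualNumber B →* DualNumber B).comp χ) := by
  unfold vch
  rw [← Category.assoc, scale_sq, Category.assoc, sp_chPt]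

lemma vch_mem_iff (χ : Multiplicative M →* DualNumber B) :
    vch R M B χ ∈ LieR (Red.diag R M) B ↔ ∀ m, TrivSqZeroExt.fst (χ m) = 1 := by
  rw [LieR, mem_Lie_iff, zeroSec_vch]
  constructor
  · intro h m
    have h1 : chPt R M B ((fstA R B : DualNumber B →* B).comp χ) = 1 := by
      have h2 := congrArg (fun t => (ptIso R B).inv ≫ t) h
      rw [Iso.inv_hom_id_assoc, MonObj.comp_one] at h2
      exact h2
    rw [map_eq_one_iff _ (chPt R M B).injective] at h1
    exact congrArg (fun z => z m) h1
  · intro h
    have h1 : (fstA R B : DualNumber B →* B).comp χ = 1 := MonoidHom.ext h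
    rw [h1, map_one, MonObj.comp_one]

/-- The character `m ↦ 1 + δ(m) ε`. -/
noncomputable def chd (δ : M →+ B) : Multiplicative M →* DualNumber B where
  toFun m := TrivSqZeroExt.inl 1 + TrivSqZeroExt.inr (δ m.toAdd)
  map_one' := by simp
  map_mul' m m' := by
    apply TrivSqZeroExt.ext
    · simp
    · simp [add_comm]

lemma chd_fst (δ : M →+ B) (m : Multiplicative M) : TrivSqZeroExt.fst (chd M B δ m) = 1 := by
  simp [chd]

lemma chd_snd (δ : M →+ B) (m : Multiplicative M) :
    TrivSqZeroExt.snd (chd M B δ m) = δ m.toAdd := by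
  simp [chd]

/-- The additive map attached to a character with trivial first component. -/
noncomputable def dch (χ : Multiplicative M →* DualNumber B)
    (h : ∀ m, TrivSqZeroExt.fst (χ m) = 1) : M →+ B where
  toFun m := TrivSqZeroExt.snd (χ (Multiplicative.ofAdd m))
  map_zero' := by simp
  map_add' a b := by
    rw [ofAdd_add, map_mul, DualNumber.snd_mul, h, h]
    ring

lemma chd_dch (χ : Multiplicative M →* DualNumber B) (h : ∀ m, TrivSqZeroExt.fst (χ m) = 1) :
    chd M B (dch M B χ h) = χ := by
  refine MonoidHom.ext fun m => ?_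
  apply TrivSqZeroExt.ext
  · rw [chd_fst, h]
  · rw [chd_snd]; rfl

lemma mem_of_lie (v : LieR (Red.diag R M) B) (m : Multiplicative M) :
    TrivSqZeroExt.fst (chv R M B v.1 m) = 1 :=
  (vch_mem_iff R M B (chv R M B v.1)).1 (by rw [vch_chv]; exact v.2) m

/-- The isomorphism. -/
noncomputable def theEquiv : LieR (Red.diag R M) B ≃* Multiplicative (M →+ B) where
  toFun v := Multiplicative.ofAdd (dch M B (chv R M B v.1) (mem_of_lie R M B v))
  invFun δ := ⟨vch R M B (chd M B δ.toAdd), (vch_mem_iff R M B _).2 (chd_fst M B _)⟩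
  left_inv v := by
    apply Subtype.ext
    change vch R M B (chd M B (dch M B (chv R M B v.1) (mem_of_lie R M B v))) = v.1
    rw [chd_dch, vch_chv]
  right_inv δ := by
    change Multiplicative.ofAdd (dch M B (chv R M B (vch R M B (chd M B δ.toAdd))) _) = δ
    refine congrArg Multiplicative.ofAdd (AddMonoidHom.ext fun m => ?_)
    change TrivSqZeroExt.snd (chv R M B (vch R M B (chd M B δ.toAdd)) (Multiplicative.ofAdd m)) = _
    rw [chv_vch, chd_snd]
    rfl
  map_mul' v w := by
    refine congrArg Multiplicative.ofAdd (AddMonoidHom.ext fun m => ?_)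
    change TrivSqZeroExt.snd (chv R M B (v.1 * w.1) (Multiplicative.ofAdd m)) =
      TrivSqZeroExt.snd (chv R M B v.1 (Multiplicative.ofAdd m)) +
      TrivSqZeroExt.snd (chv R M B w.1 (Multiplicative.ofAdd m))
    rw [chv_mul, MonoidHom.mul_apply, DualNumber.snd_mul, mem_of_lie, mem_of_lie]
    ring

lemma theEquiv_apply (v : LieR (Red.diag R M) B) (m : M) :
    Multiplicative.toAdd (theEquiv R M B v) m =
      TrivSqZeroExt.snd (chv R M B v.1 (Multiplicative.ofAdd m)) := rfl

lemma chv_apply (v : dpt B (Spec.map (CommRingCat.ofHom (algebraMap R B))) ⟶ Red.diag R M)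
    (m : Multiplicative M) : chv R M B v m =
      ((Spec.mapMulEquiv.symm ((LieS.dptIso B).inv ≫ v)).ofConv :
            MonoidAlgebra R (Multiplicative M) →ₐ[R] DualNumber B)
            (MonoidAlgebra.single m 1) := by
  rw [← algPt_apply R M (DualNumber B) (chv R M B v) m]
  congr 2
  rw [chv, chPt, MulEquiv.symm_trans_apply, MulEquiv.apply_symm_apply]

theorem theEquiv_smul (b : B) (v : LieR (Red.diag R M) B) :
    theEquiv R M B (b • v) = Multiplicative.ofAdd (b • Multiplicative.toAdd (theEquiv R M B v)) := by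
  refine congrArg Multiplicative.ofAdd (AddMonoidHom.ext fun m => ?_)
  change TrivSqZeroExt.snd (chv R M B (b • v : LieR (Red.diag R M) B).1 (Multiplicative.ofAdd m)) =
    b • TrivSqZeroExt.snd (chv R M B v.1 (Multiplicative.ofAdd m))
  rw [smul_val]
  conv_lhs => rw [← vch_chv R M B v.1]
  rw [scale_vch, chv_vch]
  change TrivSqZeroExt.snd (scaleHom b (chv R M B v.1 (Multiplicative.ofAdd m))) = _
  simp [scaleHom, TrivSqZeroExt.algebraMap_eq_inl', mul_comm]

theorem theEquiv_eq (v : LieR (Red.diag R M) B) (m : M) :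
    Multiplicative.toAdd (theEquiv R M B v) m =
      TrivSqZeroExt.snd (((Spec.mapMulEquiv.symm ((LieS.dptIso B).inv ≫ v.1)).ofConv :
            MonoidAlgebra R (Multiplicative M) →ₐ[R] DualNumber B)
            (MonoidAlgebra.single (Multiplicative.ofAdd m) 1)) := by
  rw [theEquiv_apply, chv_apply]

end Diag

end K988.LieDiag
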