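import Groth.Prelude.Def_LieS

/-!
# Exactness of the Lie functor
-/

set_option autoImplicit false
set_option linter.style.haveILetI false
set_option linter.unusedSectionVars false
set_option linter.unusedVariables false

universe u

open CategoryTheory MonoidalCategory CartesianMonoidalCategory MonObj GrpObj AlgebraicGeometry

namespace K988.LieExact

open LieS

variable {S : Scheme.{u}} {G' G G'' : Over S} [GrpObj G'] [GrpObj G] [GrpObj G'']

lemma map_val {H K : Over S} [GrpObj H] [GrpObj K] (φ : H ⟶ K) [IsMonHom φ] (B : Type u) [CommRing B]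
    (f : Spec (CommRingCat.of B) ⟶ S) (v : Lie H B f) : (LieS.map B f φ v).1 = v.1 ≫ φ := rfl

theorem exact (i : G' ⟶ G) [IsMonHom i] (q : G ⟶ G'') [IsMonHom q]
    (hex : ∀ T : Over S, Function.Injective (fun a : T ⟶ G' => a ≫ i) ∧
      Function.Surjective (fun b : T ⟶ G => b ≫ q) ∧ ∀ b : T ⟶ G, b ≫ q = 1 ↔ ∃ a : T ⟶ G', a ≫ i = b)
    (B : Type u) [CommRing B] (f : Spec (CommRingCat.of B) ⟶ S) :
    Function.Injective (LieS.map B f i) ∧ Function.Surjective (LieS.map B f q) ∧
      ∀ v : LieS.Lie G B f, LieS.map B f q v = 1 ↔ ∃ w : LieS.Lie G' B f, LieS.map B f i w = v := by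
  have i1 : ∀ T : Over S, (1 : T ⟶ G') ≫ i = 1 := fun T => (IsMonHom.monoidHom i T).map_one
  have q1 : ∀ T : Over S, (1 : T ⟶ G) ≫ q = 1 := fun T => (IsMonHom.monoidHom q T).map_one
  refine ⟨?_, ?_, ?_⟩
  · intro v w h
    apply Subtype.ext
    exact (hex _).1 (congrArg Subtype.val h)
  · intro v
    obtain ⟨b, hb⟩ := (hex (dpt B f)).2.1 v.1
    have hb' : b ≫ q = v.1 := hb
    let c : dpt B f ⟶ G := b * (proj B f ≫ zeroSec B f ≫ b)⁻¹
    have hc : zeroSec B f ≫ c = 1 := by
      change zeroSec B f ≫ (b * (proj B f ≫ zeroSec B f ≫ b)⁻¹) = 1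
      rw [MonObj.comp_mul, GrpObj.comp_inv, ← Category.assoc (zeroSec B f) (proj B f), zeroSec_proj,
        Category.id_comp, _root_.mul_inv_cancel]
    refine ⟨⟨c, hc⟩, ?_⟩
    apply Subtype.ext
    rw [map_val]
    have h1 : (IsMonHom.monoidHom q (dpt B f)) c = (IsMonHom.monoidHom q (dpt B f)) b *
        ((IsMonHom.monoidHom q (dpt B f)) (proj B f ≫ zeroSec B f ≫ b))⁻¹ := by
      rw [← map_inv, ← map_mul]
    have h2 : (IsMonHom.monoidHom q (dpt B f)) (proj B f ≫ zeroSec B f ≫ b) = 1 := by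
      change (proj B f ≫ zeroSec B f ≫ b) ≫ q = 1
      rw [Category.assoc, Category.assoc, hb', (mem_Lie_iff G'' B f v.1).1 v.2]
      exact MonObj.comp_one _
    rw [h2, inv_one, _root_.mul_one] at h1
    exact h1.trans hb'
  · intro v
    constructor
    · intro h
      obtain ⟨a, ha⟩ := ((hex (dpt B f)).2.2 v.1).1 (congrArg Subtype.val h)
      have hz : zeroSec B f ≫ a = 1 := by
        apply (hex (pt B f)).1
        change (zeroSec B f ≫ a) ≫ i = 1 ≫ i
        rw [Category.assoc, ha, i1]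
        exact (mem_Lie_iff G B f v.1).1 v.2
      exact ⟨⟨a, hz⟩, Subtype.ext ha⟩
    · rintro ⟨w, rfl⟩
      apply Subtype.ext
      exact ((hex (dpt B f)).2.2 _).2 ⟨w.1, rfl⟩

end K988.LieExact
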