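import Groth.Agent.LieS.K988.Scale

/-!
# Points with values in dual numbers are determined by, and glued from, their value at a
square-zero element
-/

set_option autoImplicit false
set_option linter.style.haveILetI false
set_option linter.unusedSectionVars false
set_option linter.unusedVariables false

universe u

open CategoryTheory MonoidalCategory CartesianMonoidalCategory MonObj GrpObj AlgebraicGeometry
open CategoryTheory.Limits
open Groth.Agent.FlatB.PushRing

namespace K988.LieInj

open LieS K988.LieCalc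

variable {S : Scheme.{u}} {B : Type u} [CommRing B] (f : Spec (CommRingCat.of B) ⟶ S)

/-- A square of rings that is elementwise a pullback, with one map surjective, gives a pushout of
spectra. -/
theorem isPushout_of_rings {R A A' D : Type u} [CommRing R] [CommRing A] [CommRing A'] [CommRing D]
    (a : R →+* A') (b : R →+* D) (p : A' →+* A) (q : D →+* A) (hp : Function.Surjective p)
    (comm : p.comp a = q.comp b) (inj : ∀ r r', a r = a r' → b r = b r' → r = r')
    (surj : ∀ x y, p x = q y → ∃ r, a r = x ∧ b r = y) :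
    IsPushout (Spec.map (CommRingCat.ofHom p)) (Spec.map (CommRingCat.ofHom q))
      (Spec.map (CommRingCat.ofHom a)) (Spec.map (CommRingCat.ofHom b)) := by
  have he : Function.Bijective (eqL.lift a b comm) := by
    constructor
    · intro r r' h
      exact inj r r' (congrArg (fun z => z.1.1) h) (congrArg (fun z => z.1.2) h)
    · intro z
      obtain ⟨r, h1, h2⟩ := surj z.1.1 z.1.2 z.2
      exact ⟨r, eqL.ext h1 h2⟩
  have : IsIso (CommRingCat.ofHom (eqL.lift a b comm)) :=
    (RingEquiv.ofBijective _ he).toCommRingCatIso.isIso_hom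
  refine IsPushout.of_iso (Groth.Agent.FlatB.PushSpec.isPushout_Spec p q hp) (Iso.refl _)
    (Iso.refl _) (Iso.refl _) (asIso (Spec.map (CommRingCat.ofHom (eqL.lift a b comm))))
    (by simp) (by simp) ?_ ?_
  · rw [Iso.refl_hom, Category.id_comp, asIso_hom]
    exact specMap_comp_eq _ _ _ fun x => rfl
  · rw [Iso.refl_hom, Category.id_comp, asIso_hom]
    exact specMap_comp_eq _ _ _ fun x => rfl

variable {C : Type u} [CommRing C] (h : B →+* C) (s : C) (hs : s * s = 0)

/-- The pushout square attached to a square-zero element `s` with `s C = s B` and `s` regular on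
`B`. -/
theorem isPushout_ev (h1 : ∀ c : C, ∃ b : B, s * c = h b * s) (h2 : ∀ b : B, h b * s = 0 → b = 0) :
    IsPushout (Spec.map (CommRingCat.ofHom (Ideal.Quotient.mk (Ideal.span {s}))))
      (Spec.map (CommRingCat.ofHom ((Ideal.Quotient.mk (Ideal.span {s})).comp h)))
      (Spec.map (CommRingCat.ofHom (dualHom h s hs)))
      (Spec.map (CommRingCat.ofHom (TrivSqZeroExt.fstHom B B B).toRingHom)) := by
  refine isPushout_of_rings _ _ _ _ Ideal.Quotient.mk_surjective ?_ ?_ ?_
  · refine RingHom.ext fun x => ?_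
    simp only [RingHom.comp_apply, dualHom_apply, map_add]
    have : Ideal.Quotient.mk (Ideal.span {s}) (h x.snd * s) = 0 := by
      rw [Ideal.Quotient.eq_zero_iff_mem, Ideal.mem_span_singleton]
      exact Dvd.intro_left _ rfl
    rw [this, add_zero]
    rfl
  · intro r r' h3 h4
    change r.fst = r'.fst at h4
    rw [dualHom_apply, dualHom_apply, h4] at h3
    apply TrivSqZeroExt.ext h4
    have h5 : h (r.snd - r'.snd) * s = 0 := by
      rw [map_sub, sub_mul, sub_eq_zero]; exact add_left_cancel h3
    exact sub_eq_zero.1 (h2 _ h5)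
  · intro x y hxy
    rw [RingHom.comp_apply, Ideal.Quotient.eq, Ideal.mem_span_singleton] at hxy
    obtain ⟨c, hc⟩ := hxy
    obtain ⟨b, hb⟩ := h1 c
    refine ⟨TrivSqZeroExt.inl y + TrivSqZeroExt.inr b, ?_, ?_⟩
    · rw [dualHom_apply]
      simp only [TrivSqZeroExt.fst_add, TrivSqZeroExt.fst_inl, TrivSqZeroExt.fst_inr, add_zero,
        TrivSqZeroExt.snd_add, TrivSqZeroExt.snd_inl, TrivSqZeroExt.snd_inr, zero_add]
      rw [← hb, ← hc]; ring
    · simp

variable {X : Over S}

/-- uniqueness -/
theorem ev_injective (h1 : ∀ c : C, ∃ b : B, s * c = h b * s) (h2 : ∀ b : B, h b * s = 0 → b = 0)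
    (x y : dpt B f ⟶ X) (hxy : ev f h s hs ≫ x = ev f h s hs ≫ y)
    (h0 : zeroSec B f ≫ x = zeroSec B f ≫ y) : x = y := by
  apply over_ext
  refine (isPushout_ev h s hs h1 h2).hom_ext ?_ ?_
  · exact congrArg (fun t => t.left) hxy
  · exact congrArg (fun t => t.left) h0

/-- gluing -/
theorem exists_ev (h1 : ∀ c : C, ∃ b : B, s * c = h b * s) (h2 : ∀ b : B, h b * s = 0 → b = 0)
    (c : Pt f h ⟶ X) (y : pt B f ⟶ X)
    (hc : rm f (Ideal.Quotient.mk (Ideal.span {s})) rfl ≫ c =
      (Over.homMk (Spec.map (CommRingCat.ofHom ((Ideal.Quotient.mk (Ideal.span {s})).comp h))) rfl :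
        Pt f ((Ideal.Quotient.mk (Ideal.span {s})).comp h) ⟶ pt B f) ≫ y) :
    ∃ x : dpt B f ⟶ X, ev f h s hs ≫ x = c ∧ zeroSec B f ≫ x = y := by
  have hp := isPushout_ev h s hs h1 h2
  let z : Spec (CommRingCat.of (DualNumber B)) ⟶ X.left :=
    hp.desc c.left y.left (congrArg (fun t => t.left) hc)
  have hz1 : Spec.map (CommRingCat.ofHom (dualHom h s hs)) ≫ z = c.left := hp.inl_desc _ _ _
  have hz2 : Spec.map (CommRingCat.ofHom (TrivSqZeroExt.fstHom B B B).toRingHom) ≫ z = y.left :=
    hp.inr_desc _ _ _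
  have hzS : z ≫ X.hom = (dpt B f).hom := by
    refine hp.hom_ext ?_ ?_
    · rw [reassoc_of% hz1]
      exact (Over.w c).trans (Over.w (ev f h s hs)).symm
    · rw [reassoc_of% hz2]
      exact (Over.w y).trans (Over.w (zeroSec B f)).symm
  exact ⟨Over.homMk z hzS, over_ext hz1, over_ext hz2⟩

end K988.LieInj
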