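import Groth.Agent.LieS.K988.Brk

/-!
# Bilinearity, alternation and the Jacobi identity for the bracket
-/

set_option autoImplicit false
set_option linter.style.haveILetI false
set_option linter.unusedSectionVars false
set_option linter.unusedVariables false

universe u

open CategoryTheory MonoidalCategory CartesianMonoidalCategory MonObj GrpObj AlgebraicGeometry
open CategoryTheory.Limits
open Groth.Agent.FlatB.PushRing

namespace K988.LieJac

open LieS K988.LieCalc K988.LieScale K988.LieInj K988.LieBrk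

section GroupId

variable {Γ : Type*} [Group Γ]

lemma cm_mul_left (a a' b : Γ) : cm (a * a') b = a * cm a' b * a⁻¹ * cm a b := by
  unfold cm; group

lemma cm_mul_right (a b b' : Γ) : cm a (b * b') = cm a b * (b * cm a b' * b⁻¹) := by
  unfold cm; group

lemma conj_eq_of_comm {a b : Γ} (h : a * b = b * a) : a * b * a⁻¹ = b := by
  rw [h]; group

lemma hall_witt (a b c : Γ) : (b * cm (cm b⁻¹ a) c * b⁻¹) * (c * cm (cm c⁻¹ b) a * c⁻¹) *
    (a * cm (cm a⁻¹ c) b * a⁻¹) = 1 := by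
  unfold cm; group

end GroupId

variable {S : Scheme.{u}} {B : Type u} [CommRing B] (f : Spec (CommRingCat.of B) ⟶ S)
variable (G : Over S) [GrpObj G] {C : Type u} [CommRing C]

lemma brk_smul_left (b : B) (x y : Lie G B f) : brk f G (b • x) y = b • brk f G x y := by
  have h12 : tD B b * (E1 B * E2 B) * (tD B b * (E1 B * E2 B)) = 0 := by
    calc _ = tD B b * tD B b * ((E1 B * E2 B) * (E1 B * E2 B)) := by ring
      _ = 0 := by rw [E12_sq, mul_zero]
  have h2 : tD B b * E2 B * (tD B b * E2 B) = 0 := by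
    calc _ = tD B b * tD B b * (E2 B * E2 B) := by ring
      _ = 0 := by rw [E2_sq, mul_zero]
  apply eq_of_ev12
  rw [ev12_brk, ev_smul f b _ (tD B) _ _ _ h12 rfl, ev_smul f b _ (tD B) _ _ _ h2 rfl]
  exact ev_commutator f G x y (tD B) _ _ _ h2 (E1_sq B) h12 (by ring)

lemma brk_smul_right (b : B) (x y : Lie G B f) : brk f G x (b • y) = b • brk f G x y := by
  have h12 : tD B b * (E1 B * E2 B) * (tD B b * (E1 B * E2 B)) = 0 := by
    calc _ = tD B b * tD B b * ((E1 B * E2 B) * (E1 B * E2 B)) := by ring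
      _ = 0 := by rw [E12_sq, mul_zero]
  have h2 : tD B b * E1 B * (tD B b * E1 B) = 0 := by
    calc _ = tD B b * tD B b * (E1 B * E1 B) := by ring
      _ = 0 := by rw [E1_sq, mul_zero]
  apply eq_of_ev12
  rw [ev12_brk, ev_smul f b _ (tD B) _ _ _ h12 rfl, ev_smul f b _ (tD B) _ _ _ h2 rfl]
  exact ev_commutator f G x y (tD B) _ _ _ (E2_sq B) h2 h12 (by ring)

lemma brk_mul_left (x x' y : Lie G B f) : brk f G (x * x') y = brk f G x y * brk f G x' y := by
  rw [lie_mul_comm f G (brk f G x y)]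
  apply eq_of_ev12
  rw [ev12_brk, ev_mul, ev_mul, cm_mul_left, ← ev12_brk, ← ev12_brk, conj_eq_of_comm]
  exact ev_mul_comm f x.1 (brk f G x' y).1 x.2 (brk f G x' y).2 _ _ _ _ _ (by
    calc E2 B * (E1 B * E2 B) = E1 B * (E2 B * E2 B) := by ring
      _ = 0 := by rw [E2_sq, mul_zero])

lemma brk_mul_right (x y y' : Lie G B f) : brk f G x (y * y') = brk f G x y * brk f G x y' := by
  apply eq_of_ev12
  rw [ev12_brk, ev_mul, ev_mul, cm_mul_right, ← ev12_brk, ← ev12_brk, conj_eq_of_comm]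
  exact ev_mul_comm f y.1 (brk f G x y').1 y.2 (brk f G x y').2 _ _ _ _ _ (by
    calc E1 B * (E1 B * E2 B) = E2 B * (E1 B * E1 B) := by ring
      _ = 0 := by rw [E1_sq, mul_zero])

section Alternating

/-- The swap of the two coordinates. -/
noncomputable def swap (B : Type u) [CommRing B] : DD B →+* DD B :=
  kk (tD B) (E1 B) (E2 B) (E1_sq B) (E2_sq B)

lemma swap_tD (b : B) : swap B (tD B b) = tD B b :=
  congrArg (fun z => z b) (kk_tD (tD B) (E1 B) (E2 B) (E1_sq B) (E2_sq B))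

lemma swap_E1 : swap B (E1 B) = E2 B := kk_E1 _ _ _ _ _
lemma swap_E2 : swap B (E2 B) = E1 B := kk_E2 _ _ _ _ _

/-- the quotient by `ε ε'` -/
abbrev QQ (B : Type u) [CommRing B] : Type u := DD B ⧸ Ideal.span {E1 B * E2 B}

noncomputable def pp (B : Type u) [CommRing B] : DD B →+* QQ B := Ideal.Quotient.mk _

lemma pp_E12 : pp B (E1 B) * pp B (E2 B) = 0 := by
  rw [← map_mul]
  exact Ideal.Quotient.eq_zero_iff_mem.2 (Ideal.mem_span_singleton_self _)

lemma pp_E1_sq : pp B (E1 B) * pp B (E1 B) = 0 := by rw [← map_mul, E1_sq, map_zero]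
lemma pp_E2_sq : pp B (E2 B) * pp B (E2 B) = 0 := by rw [← map_mul, E2_sq, map_zero]

lemma pp_sum_sq : (pp B (E2 B) + pp B (E1 B)) * (pp B (E2 B) + pp B (E1 B)) = 0 := by
  calc _ = pp B (E1 B) * pp B (E1 B) + pp B (E2 B) * pp B (E2 B) +
        2 * (pp B (E1 B) * pp B (E2 B)) := by ring
    _ = 0 := by rw [pp_E12, pp_E1_sq, pp_E2_sq]; simp

/-- `B[ε] → QQ`, `ε ↦ ε + ε'` -/
noncomputable def qq (B : Type u) [CommRing B] : DualNumber B →+* QQ B :=
  dualHom ((pp B).comp (tD B)) (pp B (E2 B) + pp B (E1 B)) pp_sum_sq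

lemma swap_fixes (z : eqL (pp B) (qq B)) : swap B (eqL.fst _ _ z) = eqL.fst _ _ z := by
  obtain ⟨⟨c, d⟩, h⟩ := z
  change pp B c = qq B d at h
  change swap B c = c
  have h1 : pp B c = pp B (tD B d.fst + tD B d.snd * (E2 B + E1 B)) := by
    rw [h]
    simp [qq]
  rw [pp, Ideal.Quotient.eq, Ideal.mem_span_singleton] at h1
  obtain ⟨r, hr⟩ := h1
  rw [E12_mul, sub_eq_iff_eq_add] at hr
  rw [hr]
  simp only [map_add, map_mul, swap_tD, swap_E1, swap_E2]
  ring

/-- `x(ε')x(ε) = x(ε) x(ε')`. -/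
lemma self_comm (x : Lie G B f) : (ev2 f ≫ x.1) * (ev1 f ≫ x.1) = (ev1 f ≫ x.1) * (ev2 f ≫ x.1) := by
  have hp := Groth.Agent.FlatB.PushSpec.isPushout_Spec (pp B) (qq B) Ideal.Quotient.mk_surjective
  have h1 : rm f (h := tD B) (pp B) rfl ≫ ((ev2 f ≫ x.1) * (ev1 f ≫ x.1)) =
      ev f ((pp B).comp (tD B)) (pp B (E2 B) + pp B (E1 B)) pp_sum_sq ≫ x.1 := by
    rw [MonObj.comp_mul, rm_ev_assoc f (pp B) rfl _ _ _ pp_E2_sq rfl,
      rm_ev_assoc f (pp B) rfl _ _ _ pp_E1_sq rfl]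
    exact (ev_add f x.1 x.2 ((pp B).comp (tD B)) _ _ pp_E2_sq pp_E1_sq
      (by rw [mul_comm, pp_E12]) _ _ rfl).symm
  have h2 : ((ev2 f ≫ x.1) * (ev1 f ≫ x.1)).left = Spec.map (CommRingCat.ofHom
      (eqL.fst (pp B) (qq B))) ≫ hp.desc ((ev2 f ≫ x.1) * (ev1 f ≫ x.1)).left x.1.left
        (congrArg (fun t => t.left) h1) := (hp.inl_desc _ _ _).symm
  have h3 : Spec.map (CommRingCat.ofHom (swap B)) ≫ Spec.map (CommRingCat.ofHom
      (eqL.fst (pp B) (qq B))) = Spec.map (CommRingCat.ofHom (eqL.fst (pp B) (qq B))) :=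
    specMap_comp_eq _ _ _ swap_fixes
  have h4 : rm f (h := tD B) (h' := tD B) (swap B) (RingHom.ext swap_tD) ≫
      ((ev2 f ≫ x.1) * (ev1 f ≫ x.1)) = (ev2 f ≫ x.1) * (ev1 f ≫ x.1) := by
    apply over_ext
    rw [Over.comp_left, rm_left, h2, reassoc_of% h3]
  rw [MonObj.comp_mul, rm_ev_assoc f _ _ _ _ _ (E1_sq B) swap_E2,
    rm_ev_assoc f _ _ _ _ _ (E2_sq B) swap_E1] at h4
  exact h4.symm

theorem brk_self (x : Lie G B f) : brk f G x x = 1 := by
  apply eq_of_ev12
  rw [ev12_brk, (cm_eq_one_iff _ _).2 (self_comm f G x)]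
  exact (MonObj.comp_one _).symm

end Alternating

section Triple

/-- A copy of the dual numbers. -/
def DN (C : Type u) [CommRing C] : Type u := DualNumber C

noncomputable instance : CommRing (DN C) := inferInstanceAs (CommRing (DualNumber C))

/-- `C → C[e]`. -/
noncomputable def inc (C : Type u) [CommRing C] : C →+* DN C := algebraMap C (DualNumber C)

/-- `e`. -/
noncomputable def ee (C : Type u) [CommRing C] : DN C := (DualNumber.eps : DualNumber C)

lemma ee_sq : ee C * ee C = 0 := eps_sq C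

lemma step_mul_aux (s : C) (c : DualNumber C) : algebraMap C (DualNumber C) s * DualNumber.eps * c =
    algebraMap C (DualNumber C) (s * c.fst) * DualNumber.eps := by
  apply TrivSqZeroExt.ext <;> simp [TrivSqZeroExt.algebraMap_eq_inl']

lemma step_mul (h : B →+* C) (s : C) (h1 : ∀ c : C, ∃ b : B, s * c = h b * s) (c : DN C) :
    ∃ b : B, inc C s * ee C * c = (inc C).comp h b * (inc C s * ee C) := by
  obtain ⟨b, hb⟩ := h1 (TrivSqZeroExt.fst (show DualNumber C from c))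
  refine ⟨b, ?_⟩
  have h2 : inc C s * ee C * c = inc C (s * (TrivSqZeroExt.fst (show DualNumber C from c))) * ee C :=
    step_mul_aux s c
  rw [h2, hb, map_mul, RingHom.comp_apply]
  ring

lemma step_reg_aux (s : C) (h : algebraMap C (DualNumber C) s * DualNumber.eps = 0) : s = 0 := by
  have := congrArg TrivSqZeroExt.snd h
  simpa [TrivSqZeroExt.algebraMap_eq_inl'] using this

lemma step_reg (h : B →+* C) (s : C) (h2 : ∀ b : B, h b * s = 0 → b = 0) (b : B)
    (hb : (inc C).comp h b * (inc C s * ee C) = 0) : b = 0 := by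
  apply h2
  apply step_reg_aux (C := C)
  rw [RingHom.comp_apply, ← _root_.mul_assoc, ← map_mul] at hb
  exact hb

variable (B) in
/-- Triple dual numbers. -/
abbrev TT : Type u := DN (DD B)

/-- The structure map. -/
noncomputable def tT (B : Type u) [CommRing B] : B →+* TT B := (inc (DD B)).comp (tD B)

noncomputable def F1 (B : Type u) [CommRing B] : TT B := inc (DD B) (E1 B)
noncomputable def F2 (B : Type u) [CommRing B] : TT B := inc (DD B) (E2 B)
noncomputable def F3 (B : Type u) [CommRing B] : TT B := ee (DD B)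

lemma F1_sq : F1 B * F1 B = 0 := by rw [F1, ← map_mul, E1_sq, map_zero]
lemma F2_sq : F2 B * F2 B = 0 := by rw [F2, ← map_mul, E2_sq, map_zero]
lemma F3_sq : F3 B * F3 B = 0 := ee_sq

lemma F123_mul (c : TT B) : ∃ b : B, F1 B * F2 B * F3 B * c = tT B b * (F1 B * F2 B * F3 B) := by
  have := step_mul (tD B) (E1 B * E2 B) (fun c => ⟨_, E12_mul c⟩) c
  rw [map_mul] at this
  exact this

lemma F123_reg (b : B) (hb : tT B b * (F1 B * F2 B * F3 B) = 0) : b = 0 := by
  refine step_reg (tD B) (E1 B * E2 B) E12_reg b ?_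
  rw [map_mul]
  exact hb

lemma F123_sq : F1 B * F2 B * F3 B * (F1 B * F2 B * F3 B) = 0 := by
  calc _ = F1 B * F1 B * (F2 B * F2 B) * (F3 B * F3 B) := by ring
    _ = 0 := by rw [F3_sq, mul_zero]

lemma F12_sq : F1 B * F2 B * (F1 B * F2 B) = 0 := by
  calc _ = F1 B * F1 B * (F2 B * F2 B) := by ring
    _ = 0 := by rw [F2_sq, mul_zero]

lemma F13_sq : F1 B * F3 B * (F1 B * F3 B) = 0 := by
  calc _ = F1 B * F1 B * (F3 B * F3 B) := by ring
    _ = 0 := by rw [F3_sq, mul_zero]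

lemma F23_sq : F2 B * F3 B * (F2 B * F3 B) = 0 := by
  calc _ = F2 B * F2 B * (F3 B * F3 B) := by ring
    _ = 0 := by rw [F3_sq, mul_zero]

noncomputable abbrev ev123 : Pt f (tT B) ⟶ dpt B f := ev f (tT B) (F1 B * F2 B * F3 B) F123_sq

lemma eq_of_ev123 {x y : Lie G B f} (h : ev123 f ≫ x.1 = ev123 f ≫ y.1) : x = y := by
  apply Subtype.ext
  refine ev_injective f (tT B) (F1 B * F2 B * F3 B) F123_sq F123_mul F123_reg _ _ h ?_
  rw [(mem_Lie_iff G B f x.1).1 x.2, (mem_Lie_iff G B f y.1).1 y.2]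

/-- One term of the Hall–Witt identity. -/
lemma hw_term (a b c : Lie G B f) (s t r : TT B) (hs : s * s = 0) (ht : t * t = 0) (hr : r * r = 0)
    (e : s * t * r = F1 B * F2 B * F3 B) :
    (ev f (tT B) t ht ≫ b.1) * cm (cm (ev f (tT B) t ht ≫ b.1)⁻¹ (ev f (tT B) s hs ≫ a.1))
      (ev f (tT B) r hr ≫ c.1) * (ev f (tT B) t ht ≫ b.1)⁻¹ =
    ev123 f ≫ (brk f G (brk f G b⁻¹ a) c).1 := by
  have hts : s * t * (s * t) = 0 := by
    calc _ = s * s * (t * t) := by ring
      _ = 0 := by rw [ht, mul_zero]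
  have h1 : cm (cm (ev f (tT B) t ht ≫ b.1)⁻¹ (ev f (tT B) s hs ≫ a.1))
      (ev f (tT B) r hr ≫ c.1) = ev123 f ≫ (brk f G (brk f G b⁻¹ a) c).1 := by
    rw [← ev_inv, ev_commutator f G b⁻¹ a (tT B) t s (s * t) ht hs hts rfl]
    exact ev_commutator f G (brk f G b⁻¹ a) c (tT B) (s * t) r (F1 B * F2 B * F3 B) hts hr F123_sq
      (by rw [← e]; ring)
  rw [h1, conj_eq_of_comm]
  refine ev_mul_comm f b.1 _ b.2 (brk f G (brk f G b⁻¹ a) c).2 _ _ _ _ _ ?_
  rw [← e]
  calc t * (s * t * r) = s * r * (t * t) := by ring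
    _ = 0 := by rw [ht, mul_zero]

theorem jacobi' (x y z : Lie G B f) : brk f G (brk f G y⁻¹ x) z * brk f G (brk f G z⁻¹ y) x *
    brk f G (brk f G x⁻¹ z) y = 1 := by
  apply eq_of_ev123
  rw [ev_mul, ev_mul]
  have e1 := hw_term f G x y z (F1 B) (F2 B) (F3 B) F1_sq F2_sq F3_sq rfl
  have e2 := hw_term f G z x y (F3 B) (F1 B) (F2 B) F3_sq F1_sq F2_sq (by ring)
  have e3 := hw_term f G y z x (F2 B) (F3 B) (F1 B) F2_sq F3_sq F1_sq (by ring)
  rw [← e1, ← e2, ← e3]
  refine Eq.trans ?_ (MonObj.comp_one _).symm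
  exact hall_witt _ _ _

end Triple

end K988.LieJac
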